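import Groth.Agent.IsoSmLib.Pushout
import Groth.Agent.ASt.FIsoHomeo
/-!
Infinitesimal lifting is detected by isomorphism classes.
-/

set_option backward.isDefEq.respectTransparency false
set_option backward.isDefEq.respectTransparency.types false
set_option linter.unusedSectionVars false

universe u

open CategoryTheory CategoryTheory.Limits AlgebraicGeometry Opposite

namespace Groth.Agent.IsoSmLib

open _root_.AlgSp Groth.Agent.ASt

variable {S : Scheme.{u}} {𝒳 𝒴 : AlgSt.Cat S} [h𝒳 : FibCat.IsFibGrpd 𝒳.p] [h𝒴 : FibCat.IsFibGrpd 𝒴.p]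

/-- The class of a value of a functor out of a slice. -/
noncomputable def clAt {U T : Over S} (y : FibCat.overCat U ⥤ᵇ 𝒳) (k : T ⟶ U) : ClType 𝒳 T :=
  cl (y.obj (ov k)) ((y.w_obj (ov k)).trans (ov_base k))

theorem clMap_clAt {U T T' : Over S} (y : FibCat.overCat U ⥤ᵇ 𝒳) (g : T' ⟶ T) (k : T ⟶ U) :
    clMap g (clAt y k) = clAt y (g ≫ k) :=
  clMap_cl g (y.map (ovHom g rfl)) _ _ (by simp [map_w, ov_p_map])

theorem clAt_eq_iff {U U' T : Over S} {y : FibCat.overCat U ⥤ᵇ 𝒳} {y' : FibCat.overCat U' ⥤ᵇ 𝒳} {k : T ⟶ U}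
    {k' : T ⟶ U'} : clAt y k = clAt y' k' ↔ ∃ a : y.obj (ov k) ⟶ y'.obj (ov k'),
      𝒳.p.map a = eqToHom (((y.w_obj (ov k)).trans (ov_base k)).trans ((y'.w_obj (ov k')).trans (ov_base k')).symm) :=
  cl_eq_iff

theorem toEquiv_clMap (φ : IsoNat.FIso 𝒳 𝒴) {T' T : Over S} (f : T' ⟶ T) (c : ClType 𝒳 T) :
    φ.toEquiv T' (clMap f c) = clMap f (show ClType 𝒴 T from φ.toEquiv T c) := by
  obtain ⟨x, hx, rfl⟩ := cl_exists c
  obtain ⟨y', y, b, hb, e', e⟩ := φ.natural f ⟨pull x hx f, pull_base x hx f⟩ ⟨x, hx⟩ (pullHom x hx f)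
    (isHomLift_of_map _ (pull_base x hx f) hx (map_pullHom x hx f))
  refine e'.trans ?_
  refine Eq.trans ?_ (congrArg (clMap f) e.symm)
  exact (clMap_cl f b y'.2 y.2 (IsHomLift.fac' 𝒴.p f b)).symm

theorem toEquiv_clAt (φ : IsoNat.FIso 𝒳 𝒴) {U T : Over S} {x : FibCat.overCat U ⥤ᵇ 𝒳}
    {y : FibCat.overCat U ⥤ᵇ 𝒴} (hxy : φ.toEquiv U (IsoNat.objCls x) = IsoNat.objCls y) (k : T ⟶ U) :
    φ.toEquiv T (clAt x k) = clAt y k := by
  have h : φ.toEquiv U (clAt x (𝟙 U)) = clAt y (𝟙 U) := hxy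
  rw [← Category.comp_id k, ← clMap_clAt, ← clMap_clAt, toEquiv_clMap, h]

theorem exists_vert_ov {U T : Over S} (o : (FibCat.overCat U).obj) (ho : (FibCat.overCat U).p.obj o = T) :
    ∃ (u : T ⟶ U) (m : o ⟶ ov u), m.left = eqToHom ho := by
  refine ⟨eqToHom ho.symm ≫ o.hom, Over.homMk (eqToHom ho) ?_, rfl⟩
  simp

/-- Lifting points along thickenings transfers through an isomorphism of presheaves of classes. -/
theorem exists_lift_of_fIso (φ : IsoNat.FIso 𝒳 𝒴) {U : Over S} [IsAffine U.left] {x : FibCat.overCat U ⥤ᵇ 𝒳}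
    {y : FibCat.overCat U ⥤ᵇ 𝒴} (hxy : φ.toEquiv U (IsoNat.objCls x) = IsoNat.objCls y)
    (hx : AlgSt.RepByAlgSpWith (LocP @Smooth) x) {V : Over S} [IsAffine V.left] {v : FibCat.overCat V ⥤ᵇ 𝒴}
    (hv : AlgSt.RepByAlgSpWith (LocP @Smooth) v) (v₁ : U ⟶ V) (e : y.obj (ov (𝟙 U)) ⟶ v.obj (ov v₁))
    (he : 𝒴.p.map e = eqToHom (((y.w_obj (ov (𝟙 U))).trans (ov_base _)).trans
      ((v.w_obj (ov v₁)).trans (ov_base v₁)).symm))
    {Z : Over S} (z : FibCat.overCat Z ⥤ᵇ 𝒴) {A : Type u} [CommRing A] (I : Ideal A)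
    (str : Spec (CommRingCat.of A) ⟶ S) (hI : I ^ 2 = ⊥) (g : bigPt str ⟶ Z)
    (P₀ : Pt y z (thick I str ≫ g)) : ∃ P : Pt y z g, Pt.Res (thick I str) rfl P₀ P := by
  obtain ⟨o, ho, α', hα'⟩ := P₀
  obtain ⟨u₀, m, hm⟩ := exists_vert_ov o ho
  obtain ⟨α, hαdef⟩ : ∃ α, α = α' ≫ y.map m := ⟨_, rfl⟩
  have hα : 𝒴.p.map α = eqToHom (((z.w_obj (ov (thick I str ≫ g))).trans (ov_base _)).trans
      ((y.w_obj (ov u₀)).trans (ov_base u₀)).symm) := by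
    rw [hαdef]
    simp [map_w, hα', ov_p_map, hm]
  obtain ⟨e₀, he₀, he₀v⟩ : ∃ e₀ : y.obj (ov u₀) ⟶ v.obj (ov (u₀ ≫ v₁)),
      e₀ ≫ v.map (ovHom u₀ rfl) = y.map (ovHom u₀ (Category.comp_id u₀)) ≫ e ∧
      𝒴.p.map e₀ = eqToHom (((y.w_obj (ov u₀)).trans (ov_base u₀)).trans
        ((v.w_obj (ov (u₀ ≫ v₁))).trans (ov_base _)).symm) := by
    refine ⟨facMap (v.map (ovHom u₀ rfl)) (y.map (ovHom u₀ (Category.comp_id u₀)) ≫ e) (eqToHom _) ?_,
      facMap_comp _ _ _ _, map_facMap _ _ _ _⟩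
    simp [map_w, he, ov_p_map]
  let Q₀ : Pt v z (thick I str ≫ g) :=
    { x := ov (u₀ ≫ v₁), hx := rfl, φ := α ≫ e₀, hφ := by simp [hα, he₀v] }
  obtain ⟨⟨oT, hoT, ψ', hψ'⟩, a, ha, haw⟩ := exists_lift I str hv hI g rfl Q₀
  obtain ⟨g', mT, hmT⟩ := exists_vert_ov oT hoT
  obtain ⟨ψ, hψdef⟩ : ∃ ψ, ψ = ψ' ≫ v.map mT := ⟨_, rfl⟩
  have hψ : 𝒴.p.map ψ = eqToHom (((z.w_obj (ov g)).trans (ov_base g)).trans
      ((v.w_obj (ov g')).trans (ov_base g')).symm) := by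
    rw [hψdef]
    simp [map_w, hψ', ov_p_map, hmT]
  have hb : (a ≫ mT).left = thick I str := by
    rw [Over.comp_left, show a.left = eqToHom _ ≫ thick I str ≫ eqToHom hoT.symm from ha, hmT]
    simp [Q₀]
  have hcomm : u₀ ≫ v₁ = thick I str ≫ g' := by
    rw [← hb]
    exact (Over.w (a ≫ mT)).symm
  have hψw : z.map (ovHom (thick I str) rfl) ≫ ψ = (α ≫ e₀) ≫ v.map (ovHom (thick I str) hcomm.symm) := by
    rw [hψdef, ← Category.assoc, haw, Category.assoc, ← Functor.map_comp]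
    congr 2
    exact Over.OverMorphism.ext hb
  obtain ⟨B, _, J, sB, i, jU, jT, w, hJ, hi, hij, hUw, hTw, hjj⟩ := exists_pushout I str hI v₁ g' u₀ hcomm
  haveI := hi
  obtain ⟨zη, hzη⟩ := exists_chart_fIso (fIsoSymm φ) (BasedFunctor.comp (AlgSt.overMap w) v)
  have hη : φ.toEquiv (bigPt sB) (IsoNat.objCls zη) = IsoNat.objCls (BasedFunctor.comp (AlgSt.overMap w) v) :=
    ((Equiv.symm_apply_eq _).1 hzη).symm
  have hηk : ∀ {T : Over S} (k : T ⟶ bigPt sB), φ.toEquiv T (clAt zη k) = clAt v (k ≫ w) := fun k =>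
    toEquiv_clAt φ hη k
  have hey : clAt y (𝟙 U) = clAt v v₁ := clAt_eq_iff.2 ⟨e, he⟩
  have hki : clAt zη (thick J sB ≫ 𝟙 _) = clAt x i := by
    refine (φ.toEquiv _).injective ((hηk _).trans ((toEquiv_clAt φ hxy i).trans ?_).symm)
    rw [← Category.comp_id i, ← clMap_clAt, hey, clMap_clAt, Category.comp_id, ← hij,
      Category.assoc, hUw]
  obtain ⟨φ₁, hφ₁⟩ := clAt_eq_iff.1 hki
  obtain ⟨⟨oR, hoR, ρ', hρ'⟩, aR, haR, -⟩ := exists_lift (z := zη) J sB hx hJ (𝟙 (bigPt sB)) rfl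
    ({ x := ov i, hx := rfl, φ := φ₁, hφ := by simpa using hφ₁ } : Pt x zη (thick J sB ≫ 𝟙 _))
  obtain ⟨r, mR, hmR⟩ := exists_vert_ov oR hoR
  have hir : thick J sB ≫ r = i := by
    have h := Over.w (aR ≫ mR)
    rw [Over.comp_left, show aR.left = eqToHom _ ≫ thick J sB ≫ eqToHom hoR.symm from haR, hmR] at h
    simpa using h
  have hjr : jU ≫ r = 𝟙 U := by
    rw [← cancel_epi i, reassoc_of% hij, hir, Category.comp_id]
  have hzr : clAt zη (𝟙 _) = clAt x r := clAt_eq_iff.2 ⟨ρ' ≫ x.map mR, by simp [map_w, hρ', ov_p_map, hmR]⟩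
  have hrw : clAt y r = clAt v w := by
    rw [← toEquiv_clAt φ hxy r, ← hzr, hηk, Category.id_comp]
  obtain ⟨β, hβ⟩ := clAt_eq_iff.1 hrw
  let jy : ov (𝟙 U) ⟶ ov r := ovHom jU hjr
  let jv : ov v₁ ⟶ ov w := ovHom jU hUw
  obtain ⟨a₁, ha₁, ha₁v⟩ : ∃ a₁ : y.obj (ov (𝟙 U)) ⟶ v.obj (ov v₁), a₁ ≫ v.map jv = y.map jy ≫ β ∧
      𝒴.p.map a₁ = eqToHom (((y.w_obj (ov (𝟙 U))).trans (ov_base _)).trans
        ((v.w_obj (ov v₁)).trans (ov_base v₁)).symm) := by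
    refine ⟨facMap (v.map jv) (y.map jy ≫ β) (eqToHom _) ?_, facMap_comp _ _ _ _, map_facMap _ _ _ _⟩
    simp [map_w, hβ, ov_p_map, jv, jy]
  haveI : IsIso a₁ := isIso_of_vert a₁ ha₁v
  let s := e ≫ inv a₁
  have hs : 𝒴.p.map s = 𝟙 _ := by simp [s, he, ha₁v]
  obtain ⟨sr, hsr, hsrv⟩ : ∃ sr : y.obj (ov r) ⟶ y.obj (ov r),
      sr ≫ y.map (ovHom r (Category.comp_id r)) = y.map (ovHom r (Category.comp_id r)) ≫ s ∧
      𝒴.p.map sr = 𝟙 _ := by
    refine ⟨facMap (y.map (ovHom r (Category.comp_id r))) (y.map (ovHom r (Category.comp_id r)) ≫ s) (𝟙 _) ?_,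
      facMap_comp _ _ _ _, map_facMap _ _ _ _⟩
    simp [hs]
  have hjs : y.map jy ≫ sr = s ≫ y.map jy := by
    refine hom_ext (y.map (ovHom r (Category.comp_id r))) (by simp [hs, hsrv]) ?_
    have hid : jy ≫ ovHom r (Category.comp_id r) = 𝟙 _ := Over.OverMorphism.ext hjr
    rw [Category.assoc, hsr, ← Category.assoc, ← Functor.map_comp, hid, Category.assoc, ← Functor.map_comp, hid,
      CategoryTheory.Functor.map_id, Category.id_comp, Category.comp_id]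
  have hβ' : y.map jy ≫ (sr ≫ β) = e ≫ v.map jv := by
    rw [← Category.assoc, hjs, Category.assoc, ← ha₁]
    simp [s]
  obtain ⟨u, hu⟩ : ∃ u, u = jT ≫ r := ⟨_, rfl⟩
  obtain ⟨βT, hβT, hβTv⟩ : ∃ βT : y.obj (ov u) ⟶ v.obj (ov g'),
      βT ≫ v.map (ovHom jT hTw) = y.map (ovHom jT hu.symm) ≫ sr ≫ β ∧
      𝒴.p.map βT = eqToHom (((y.w_obj (ov u)).trans (ov_base u)).trans ((v.w_obj (ov g')).trans (ov_base g')).symm) := by
    refine ⟨facMap (v.map (ovHom jT hTw)) (y.map (ovHom jT hu.symm) ≫ sr ≫ β) (eqToHom _) ?_,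
      facMap_comp _ _ _ _, map_facMap _ _ _ _⟩
    simp [map_w, hβ, hsrv, ov_p_map]
  haveI : IsIso βT := isIso_of_vert βT hβTv
  refine ⟨⟨ov u, rfl, ψ ≫ inv βT, by simp [hψ, hβTv]⟩, ?_⟩
  have hju : thick I str ≫ u = u₀ := by
    rw [hu, reassoc_of% hjj, hjr, Category.comp_id]
  refine ⟨m ≫ ovHom (thick I str) hju, ?_, ?_⟩
  · show (m ≫ ovHom (thick I str) hju).left = _
    simp [hm]
  rw [← cancel_mono βT, Category.assoc, Category.assoc, Category.assoc, IsIso.inv_hom_id, Category.comp_id, hψw,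
    hαdef, Category.assoc, Category.assoc, Functor.map_comp, Category.assoc]
  congr 2
  refine hom_ext (v.map (ovHom jT hTw)) (by simp [map_w, he₀v, hβTv, ov_p_map]) ?_
  have h1 : ovHom (thick I str) hcomm.symm ≫ ovHom jT hTw = ovHom u₀ rfl ≫ jv := Over.OverMorphism.ext hjj
  have h2 : ovHom (thick I str) hju ≫ ovHom jT hu.symm = ovHom u₀ (Category.comp_id u₀) ≫ jy :=
    Over.OverMorphism.ext hjj
  rw [Category.assoc, ← Functor.map_comp, h1, Functor.map_comp, reassoc_of% he₀, Category.assoc, hβT,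
    ← hβ', ← Category.assoc, ← Category.assoc (y.map (ovHom (thick I str) hju)), ← Functor.map_comp,
    ← Functor.map_comp, h2]

end Groth.Agent.IsoSmLib
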