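import Groth.Agent.ASt.FIsoPts
import Groth.Agent.S10629
import Groth.Agent.S10031
import Groth.Agent.S10024
import Groth.Agent.ASp.RelLP
/-!
Lifting properties of morphisms of categories over schemes, read on objects.
-/

set_option backward.isDefEq.respectTransparency false
set_option backward.isDefEq.respectTransparency.types false
set_option linter.unusedSectionVars false

universe u

open CategoryTheory CategoryTheory.Limits AlgebraicGeometry Opposite

namespace Groth.Agent.IsoSmLib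

open _root_.AlgSp Groth.Agent.ASt

variable {S : Scheme.{u}}

section sec

variable {F G : Sp S}

/-- The section given by a morphism out of a scheme. -/
noncomputable def secOf {T : Over S} (l : (yon S).obj T ⟶ F) : F.obj.obj (op T) := uliftYonedaEquiv.{u + 1} l.hom

/-- The morphism given by a section. -/
noncomputable def homOf {T : Over S} (ξ : F.obj.obj (op T)) : (yon S).obj T ⟶ F :=
  ObjectProperty.homMk (uliftYonedaEquiv.{u + 1}.symm ξ)

theorem secOf_homOf {T : Over S} (ξ : F.obj.obj (op T)) : secOf (homOf ξ : (yon S).obj T ⟶ F) = ξ :=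
  Equiv.apply_symm_apply _ ξ

theorem secOf_injective {T : Over S} : Function.Injective (secOf : ((yon S).obj T ⟶ F) → _) := fun _ _ h =>
  ObjectProperty.hom_ext _ (uliftYonedaEquiv.{u + 1}.injective h)

theorem secOf_map {T' T : Over S} (j : T' ⟶ T) (l : (yon S).obj T ⟶ F) :
    secOf ((yon S).map j ≫ l) = F.obj.map j.op (secOf l) :=
  (uliftYonedaEquiv_naturality l.hom j.op).symm

theorem secOf_comp {T : Over S} (l : (yon S).obj T ⟶ F) (f : F ⟶ G) :
    secOf (l ≫ f) = f.hom.app (op T) (secOf l) := rfl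

end sec

variable {𝒳 𝒴 : AlgSt.Cat S} [h𝒳 : FibCat.IsFibGrpd 𝒳.p] [h𝒴 : FibCat.IsFibGrpd 𝒴.p]
variable {f : 𝒳 ⥤ᵇ 𝒴} {Z : Over S} {z : FibCat.overCat Z ⥤ᵇ 𝒴}

/-- A point of the fibre of `f` over a point `g` of the test scheme. -/
structure Pt (f : 𝒳 ⥤ᵇ 𝒴) (z : FibCat.overCat Z ⥤ᵇ 𝒴) {T : Over S} (g : T ⟶ Z) where
  /-- the object -/
  x : 𝒳.obj
  hx : 𝒳.p.obj x = T
  /-- the identification -/
  φ : z.obj (ov g) ⟶ f.obj x
  hφ : 𝒴.p.map φ = eqToHom (((z.w_obj (ov g)).trans (ov_base g)).trans (hx.symm.trans (f.w_obj x).symm))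

/-- One point restricts to another along a morphism. -/
def Pt.Res {T' T : Over S} (j : T' ⟶ T) {g : T ⟶ Z} {g' : T' ⟶ Z} (e : j ≫ g = g') (P' : Pt f z g')
    (P : Pt f z g) : Prop :=
  ∃ a : P'.x ⟶ P.x, 𝒳.p.map a = eqToHom P'.hx ≫ j ≫ eqToHom P.hx.symm ∧
    z.map (ovHom j e) ≫ P.φ = P'.φ ≫ f.map a

/-- The class of a point. -/
noncomputable def Pt.el {T : Over S} {g : T ⟶ Z} (P : Pt f z g) : ClType (FibCat.fp z f) T :=
  fpEl g P.x P.hx P.φ P.hφ

theorem Pt.fpHom_el {T : Over S} {g : T ⟶ Z} (P : Pt f z g) : fpHom P.el = g := fpHom_fpEl _ _ _ _ _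

theorem Pt.exists_el {T : Over S} (c : ClType (FibCat.fp z f) T) :
    ∃ (g : T ⟶ Z) (P : Pt f z g), P.el = c := by
  obtain ⟨k, x, hx, φ, hφ, rfl⟩ := fpEl_exists c
  exact ⟨k, ⟨x, hx, φ, hφ⟩, rfl⟩

/-- Restriction of points. -/
theorem Pt.exists_res {T' T : Over S} (j : T' ⟶ T) {g : T ⟶ Z} {g' : T' ⟶ Z} (e : j ≫ g = g') (P : Pt f z g) :
    ∃ P' : Pt f z g', Pt.Res j e P' P := by
  let x' := pull P.x P.hx j
  let a : x' ⟶ P.x := pullHom P.x P.hx j
  let φ' : z.obj (ov g') ⟶ f.obj x' := facMap (f.map a) (z.map (ovHom j e) ≫ P.φ)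
    (eqToHom (((z.w_obj (ov g')).trans (ov_base g')).trans ((pull_base _ _ _).symm.trans (f.w_obj x').symm)))
    (by simp [a, x', map_w, P.hφ, map_pullHom, ov_p_map])
  refine ⟨⟨x', pull_base _ _ _, φ', map_facMap _ _ _ _⟩, a, ?_, ?_⟩
  · simp [a, x', map_pullHom]
  · symm
    exact facMap_comp (f.map a) (z.map (ovHom j e) ≫ P.φ) _ (by simp [a, x', map_w, P.hφ, map_pullHom, ov_p_map])

theorem Pt.Res.clMap {T' T : Over S} {j : T' ⟶ T} {g : T ⟶ Z} {g' : T' ⟶ Z} {e : j ≫ g = g'} {P' : Pt f z g'}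
    {P : Pt f z g} (h : Pt.Res j e P' P) : ASt.clMap j P.el = P'.el := by
  obtain ⟨a, -, w⟩ := h
  exact clMap_fpEl j e a w

theorem Pt.res_of_clMap {T' T : Over S} {j : T' ⟶ T} {g : T ⟶ Z} {g' : T' ⟶ Z} (e : j ≫ g = g') {P' : Pt f z g'}
    {P : Pt f z g} (h : ASt.clMap j P.el = P'.el) : Pt.Res j e P' P := by
  obtain ⟨P'', hP''⟩ := P.exists_res j e
  rw [hP''.clMap] at h
  obtain ⟨b, hb, hb'⟩ := fpEl_eq_iff.1 h.symm
  obtain ⟨a, ha, w⟩ := hP''
  refine ⟨b ≫ a, by simp [hb, ha], ?_⟩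
  rw [w, Functor.map_comp, ← Category.assoc, hb']

theorem Pt.eq_of_el {T : Over S} {g : T ⟶ Z} {P : Pt f z g} {g' : T ⟶ Z} {P' : Pt f z g'} (h : P.el = P'.el) :
    g = g' := by rw [← P.fpHom_el, h, P'.fpHom_el]

section smooth

variable {A : Type u} [CommRing A] (I : Ideal A) (str : Spec (CommRingCat.of A) ⟶ S)

/-- The affine test scheme. -/
noncomputable abbrev bigPt : Over S := Over.mk str

/-- The closed subscheme of the test scheme. -/
noncomputable abbrev smallPt : Over S := Over.mk (Spec.map (CommRingCat.ofHom (Ideal.Quotient.mk I)) ≫ str)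

/-- The thickening. -/
noncomputable abbrev thick : smallPt I str ⟶ bigPt str :=
  Over.homMk (Spec.map (CommRingCat.ofHom (Ideal.Quotient.mk I))) rfl

/-- Lifting along a thickening for a smooth representable morphism. -/
theorem exists_lift (hf : AlgSt.RepByAlgSpWith (LocP @Smooth) f) (hI : I ^ 2 = ⊥) (g : bigPt str ⟶ Z)
    {g₀ : smallPt I str ⟶ Z} (e : thick I str ≫ g = g₀) (P₀ : Pt f z g₀) :
    ∃ P : Pt f z g, Pt.Res (thick I str) e P₀ P := by
  obtain ⟨hs, hA, hP⟩ := (repByAlgSpWith_iff.1 hf).2 Z z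
  let F : AlgSp.Space S := ⟨⟨fib z f, hs⟩, hA⟩
  let π : F.obj ⟶ (yon S).obj Z := ObjectProperty.homMk (fibπ z f)
  have hfs : IsFormallySmoothMor π :=
    ((S10629.result (X := F) (Y := ⟨(yon S).obj Z, IsAlgSpace.yon_obj Z⟩) (ObjectProperty.homMk π)).1 hP).2
  have hcomm : (homOf (F := F.obj) P₀.el) ≫ π = (yon S).map (thick I str) ≫ (yon S).map g := by
    rw [← Functor.map_comp, e]
    refine secOf_injective ?_
    rw [secOf_comp, secOf_homOf]
    change (fibπ z f).app (op _) P₀.el = _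
    rw [fibπ_app, P₀.fpHom_el]
    exact congrArg ULift.up (Category.id_comp g₀).symm
  obtain ⟨l, hl₁, hl₂⟩ := hfs { A := A, I := I, sq_zero := hI, str := str, top := homOf P₀.el, bot := (yon S).map g,
                                comm := hcomm }
  obtain ⟨g', P, hP'⟩ := Pt.exists_el (secOf l)
  have hg : g' = g := by
    have h := congrArg secOf hl₂
    rw [secOf_comp] at h
    change (fibπ z f).app (op (bigPt str)) (secOf l) = _ at h
    rw [fibπ_app, ← hP', P.fpHom_el] at h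
    exact (congrArg ULift.down h).trans (Category.id_comp g)
  obtain rfl : g = g' := hg.symm
  refine ⟨P, Pt.res_of_clMap e ?_⟩
  rw [hP']
  have h := congrArg secOf hl₁
  rw [secOf_map, secOf_homOf] at h
  exact h

end smooth

section lfp

variable {I : Type u} [SmallCategory I] [IsCofiltered I]

/-- Descent of points along a limit for a representable morphism of finite presentation. -/
theorem exists_descend (hf : AlgSt.RepByAlgSpWith (LocP @LocallyOfFinitePresentation) f) (D : I ⥤ Over S) (c : Cone D)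
    (hc : IsLimit ((Over.forget S).mapCone c)) (hD : ∀ i, IsAffine (D.obj i).left) (hT : IsAffine c.pt.left)
    (i : I) (g : D.obj i ⟶ Z) (P : Pt f z (c.π.app i ≫ g)) :
    ∃ (j : I) (t : j ⟶ i) (P' : Pt f z (D.map t ≫ g)),
      Pt.Res (c.π.app j) (by rw [← Category.assoc, c.w]) P P' := by
  obtain ⟨hs, hA, hP⟩ := (repByAlgSpWith_iff.1 hf).2 Z z
  let F : AlgSp.Space S := ⟨⟨fib z f, hs⟩, hA⟩
  let π : F.obj ⟶ (yon S).obj Z := ObjectProperty.homMk (fibπ z f)
  have hlp := (ASp.isRelLimitPreserving_iff _).1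
    ((S10024.result S (X := F) (Y := ⟨(yon S).obj Z, IsAlgSpace.yon_obj Z⟩) (ObjectProperty.homMk π)).1 hP)
  obtain ⟨j, t, x', hx', hg'⟩ := (hlp D c hc hD hT).1 i ⟨g⟩ P.el (by
    change (fibπ z f).app (op c.pt) P.el = _
    rw [fibπ_app, P.fpHom_el]
    rfl)
  obtain ⟨g', P', hP'⟩ := Pt.exists_el x'
  have hg : g' = D.map t ≫ g := by
    change (fibπ z f).app (op (D.obj j)) x' = _ at hg'
    rw [fibπ_app, ← hP', P'.fpHom_el] at hg'
    exact congrArg ULift.down hg'
  obtain rfl : g' = D.map t ≫ g := hg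
  exact ⟨j, t, P', Pt.res_of_clMap _ (by rw [hP']; exact hx')⟩

end lfp

/-- A representable morphism with lifting of points along thickenings and descent of points along limits is smooth. -/
theorem smooth_of_lifts (hrep : AlgSt.RepByAlgSp1 f)
    (hlift : ∀ {Z : Over S} (z : FibCat.overCat Z ⥤ᵇ 𝒴) {A : Type u} [CommRing A] (I : Ideal A)
      (str : Spec (CommRingCat.of A) ⟶ S), I ^ 2 = ⊥ → ∀ (g : bigPt str ⟶ Z) (P₀ : Pt f z (thick I str ≫ g)),
      ∃ P : Pt f z g, Pt.Res (thick I str) rfl P₀ P)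
    (hdesc : ∀ {Z : Over S} (z : FibCat.overCat Z ⥤ᵇ 𝒴) ⦃I : Type u⦄ [SmallCategory I] [IsCofiltered I]
      (D : I ⥤ Over S) (c : Cone D), IsLimit ((Over.forget S).mapCone c) → (∀ i, IsAffine (D.obj i).left) →
      IsAffine c.pt.left → ∀ (i : I) (g : D.obj i ⟶ Z) (P : Pt f z (c.π.app i ≫ g)),
      ∃ (j : I) (t : j ⟶ i) (P' : Pt f z (D.map t ≫ g)), ASt.clMap (c.π.app j) P'.el = P.el) :
    AlgSt.RepByAlgSpWith (LocP @Smooth) f := by
  haveI : (LocP @Smooth : MorphismProperty (Sp S)).RespectsIso := inferInstance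
  rw [repByAlgSp1_iff] at hrep
  refine repByAlgSpWith_iff.2 ⟨hrep.1, fun Z z => ?_⟩
  obtain ⟨hs, hA⟩ := hrep.2 Z z
  let F : AlgSp.Space S := ⟨⟨fib z f, hs⟩, hA⟩
  let π : F.obj ⟶ (yon S).obj Z := ObjectProperty.homMk (fibπ z f)
  refine ⟨hs, hA, (S10629.result (X := F) (Y := ⟨(yon S).obj Z, IsAlgSpace.yon_obj Z⟩)
    (ObjectProperty.homMk π)).2 ⟨S10031.result S (X := F) (Y := ⟨(yon S).obj Z, IsAlgSpace.yon_obj Z⟩)
      (ObjectProperty.homMk π) ?_, ?_⟩⟩
  · intro I _ _ D c hc hD hT x i y hxy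
    obtain ⟨g, rfl⟩ := (yon S).map_surjective y
    obtain ⟨k, P, hP⟩ := Pt.exists_el (secOf x)
    have hk : k = c.π.app i ≫ g := by
      have h := congrArg secOf hxy
      rw [← Functor.map_comp, secOf_comp] at h
      change (fibπ z f).app (op c.pt) (secOf x) = _ at h
      rw [fibπ_app, ← hP, P.fpHom_el] at h
      exact (congrArg ULift.down h).trans (Category.id_comp (c.π.app i ≫ g))
    subst hk
    obtain ⟨j, t, P', hP'⟩ := hdesc z D c hc hD hT i g P
    refine ⟨j, t, homOf P'.el, secOf_injective ?_, secOf_injective ?_⟩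
    · rw [secOf_map, secOf_homOf, ← hP]
      exact hP'
    · rw [secOf_comp, secOf_homOf, ← Functor.map_comp]
      change (fibπ z f).app (op (D.obj j)) P'.el = _
      rw [fibπ_app, P'.fpHom_el]
      exact congrArg ULift.up (Category.id_comp _).symm
  · intro sq
    obtain ⟨g, hg⟩ := (yon S).map_surjective sq.bot
    obtain ⟨k, P₀, hP₀⟩ := Pt.exists_el (secOf sq.top)
    have hk : k = thick sq.I sq.str ≫ g := by
      have h := congrArg secOf sq.comm
      rw [← hg, ← Functor.map_comp, secOf_comp] at h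
      change (fibπ z f).app (op sq.ptT) (secOf sq.top) = _ at h
      rw [fibπ_app, ← hP₀, P₀.fpHom_el] at h
      exact (congrArg ULift.down h).trans (Category.id_comp (thick sq.I sq.str ≫ g))
    subst hk
    obtain ⟨P, hP⟩ := hlift z sq.I sq.str sq.sq_zero g P₀
    refine ⟨homOf P.el, secOf_injective ?_, secOf_injective ?_⟩
    · rw [secOf_map, secOf_homOf, ← hP₀]
      exact hP.clMap
    · rw [secOf_comp, secOf_homOf, ← hg]
      change (fibπ z f).app (op sq.ptT') P.el = _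
      rw [fibπ_app, P.fpHom_el]
      exact congrArg ULift.up (Category.id_comp _).symm

end Groth.Agent.IsoSmLib
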