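import Groth.Agent.IsoSmLib.Descend
import Groth.Agent.ASt.RepDesc
import Groth.Agent.ASt.SrcDesc
import Groth.Agent.ASt.OverMapRep
import Groth.Agent.ASp.SmLocalST
import Groth.Agent.ASt.LocQ
/-!
Smoothness of morphisms from schemes is detected by presheaves of isomorphism classes.
-/

set_option backward.isDefEq.respectTransparency false
set_option backward.isDefEq.respectTransparency.types false
set_option linter.unusedSectionVars false

universe u

open CategoryTheory CategoryTheory.Limits AlgebraicGeometry Opposite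

namespace Groth.Agent.IsoSmLib

open _root_.AlgSp Groth.Agent.ASt Groth.Agent.ASp

variable {S : Scheme.{u}}

section push

variable {𝒲 𝒳 𝒴 : AlgSt.Cat S} [FibCat.IsFibGrpd 𝒲.p] [FibCat.IsFibGrpd 𝒳.p] [FibCat.IsFibGrpd 𝒴.p]
variable {k : 𝒲 ⥤ᵇ 𝒳} {f : 𝒳 ⥤ᵇ 𝒴} {Z : Over S} {z : FibCat.overCat Z ⥤ᵇ 𝒴}

/-- A point of a composite gives a point of the second morphism. -/
def Pt.push {T : Over S} {g : T ⟶ Z} (P : Pt (BasedFunctor.comp k f) z g) : Pt f z g :=
  ⟨k.obj P.x, (k.w_obj _).trans P.hx, P.φ, P.hφ⟩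

theorem Pt.Res.push {T' T : Over S} {j : T' ⟶ T} {g : T ⟶ Z} {g' : T' ⟶ Z} {e : j ≫ g = g'}
    {P' : Pt (BasedFunctor.comp k f) z g'} {P : Pt (BasedFunctor.comp k f) z g} (h : Pt.Res j e P' P) :
    Pt.Res j e P'.push P.push := by
  obtain ⟨a, ha, w⟩ := h
  exact ⟨k.map a, by simp [map_w, ha, Pt.push], w⟩

end push

theorem locP_smooth_le_lfp {X Y : Sp S} (f : X ⟶ Y) (h : LocP @Smooth f) : LocP @LocallyOfFinitePresentation f :=
  fun _ _ a b k ha hb e => haveI : Smooth k.left := h a b k ha hb e; inferInstance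

theorem repByAlgSpWith_overMap_surj {A B : Over S} {σ : A ⟶ B} (h : Surjective σ.left) :
    AlgSt.RepByAlgSpWith IsSurjectiveMor (AlgSt.overMap σ) :=
  repByAlgSpWith_overMap fun _ _ _ sq => surjective_map_of_repWith
    (repWith_yon_map (P := @Surjective) (MorphismProperty.of_isPullback (sq.map (Over.forget S)) h))

variable {𝒳 𝒴 : AlgSt.Cat S} [h𝒳 : FibCat.IsFibGrpd 𝒳.p] [h𝒴 : FibCat.IsFibGrpd 𝒴.p]

theorem clAt_congr {U T : Over S} {y y' : FibCat.overCat U ⥤ᵇ 𝒴} (α : y ≅ y') (k : T ⟶ U) :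
    clAt y k = clAt y' k :=
  clAt_eq_iff.2 ⟨α.hom.toNatTrans.app (ov k), map_app _ _ α.hom _⟩

theorem clAt_overMap {U V T : Over S} (y : FibCat.overCat U ⥤ᵇ 𝒴) (l : V ⟶ U) (k : T ⟶ V) :
    clAt (BasedFunctor.comp (AlgSt.overMap l) y) k = clAt y (k ≫ l) := rfl

theorem repByAlgSpWith_smooth_of_fIso (hY : AlgSt.IsAlgStack Scheme.fppfPrecoverage 𝒴)
    (hΔ : AlgSt.RepByAlgSp1 (FibCat.diag (FibCat.toSelf 𝒴)))
    (hI : AlgSt.RepByAlgSpWith (LocP @LocallyOfFinitePresentation) (FibCat.inertiaToBase (FibCat.toSelf 𝒴)))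
    (φ : IsoNat.FIso 𝒳 𝒴) {U : Over S} {x : FibCat.overCat U ⥤ᵇ 𝒳} {y : FibCat.overCat U ⥤ᵇ 𝒴}
    (hxy : φ.toEquiv U (IsoNat.objCls x) = IsoNat.objCls y) (hx : AlgSt.RepByAlgSpWith (LocP @Smooth) x) :
    AlgSt.RepByAlgSpWith (LocP @Smooth) y := by
  obtain ⟨A, a, ha, has⟩ := hY.atlas
  obtain ⟨M, L, m, hLs, hLsurj, ⟨α⟩⟩ := exists_overMap_iso ha has y
  choose Ap hApA hmem using fun p : ↥M.left => exists_isAffineOpen_mem_and_subset (x := m.left p) (U := ⊤) trivial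
  choose Mp hMpA hpM hMle using fun p : ↥M.left => exists_isAffineOpen_mem_and_subset
    (x := p) (U := m.left ⁻¹ᵁ Ap p) (hmem p).1
  let gM : ↥M.left → Scheme.{u} := fun p => Mp p
  let gA : ↥M.left → Scheme.{u} := fun p => Ap p
  let lW : ∐ gM ⟶ M.left := Limits.Sigma.desc fun p => (Mp p).ι
  let lV : ∐ gA ⟶ A.left := Limits.Sigma.desc fun p => (Ap p).ι
  let w : ∐ gM ⟶ ∐ gA := Limits.Sigma.map fun p => m.left.resLE (Ap p) (Mp p) (hMle p)
  have hw : w ≫ lV = lW ≫ m.left := by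
    refine Limits.Sigma.hom_ext _ _ fun p => ?_
    simp [w, lV, lW, gA, gM, Scheme.Hom.resLE_comp_ι]
  haveI hlWs : Smooth lW := IsZariskiLocalAtSource.sigmaDesc fun p => inferInstance
  haveI hlVs : Smooth lV := IsZariskiLocalAtSource.sigmaDesc fun p => inferInstance
  haveI hlWsurj : Surjective lW := Surjective.sigmaDesc_of_union_range_eq_univ
    (Set.eq_univ_of_forall fun p => Set.mem_iUnion.2 ⟨p, by rw [Scheme.Opens.range_ι]; exact hpM p⟩)
  let W : Over S := Over.mk (lW ≫ M.hom)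
  let V : Over S := Over.mk (lV ≫ A.hom)
  let lW' : W ⟶ M := Over.homMk lW rfl
  let lV' : V ⟶ A := Over.homMk lV rfl
  let w' : W ⟶ V := Over.homMk w (by
    show w ≫ lV ≫ A.hom = lW ≫ M.hom
    rw [← Category.assoc, hw, Category.assoc, Over.w m])
  have hw' : w' ≫ lV' = lW' ≫ m := Over.OverMorphism.ext hw
  let l : W ⟶ U := lW' ≫ L
  let x' := BasedFunctor.comp (AlgSt.overMap l) x
  let y' := BasedFunctor.comp (AlgSt.overMap l) y
  let v := BasedFunctor.comp (AlgSt.overMap lV') a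
  have hls : Smooth l.left := inferInstanceAs (Smooth (lW ≫ L.left))
  have hlsurj : Surjective l.left := inferInstanceAs (Surjective (lW ≫ L.left))
  have hov : ∀ {A B : Over S} (σ : A ⟶ B), Smooth σ.left →
      AlgSt.RepByAlgSpWith (LocP @Smooth) (AlgSt.overMap σ) := fun σ h => repByAlgSpWith_overMap_locP h
  have hx' : AlgSt.RepByAlgSpWith (LocP @Smooth) x' := repByAlgSpWith_comp compLocal_smooth (hov l hls) hx
  have hv : AlgSt.RepByAlgSpWith (LocP @Smooth) v := repByAlgSpWith_comp compLocal_smooth (hov lV' hlVs) ha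
  have hxy' : φ.toEquiv W (IsoNat.objCls x') = IsoNat.objCls y' := toEquiv_clAt φ hxy (𝟙 W ≫ l)
  refine repByAlgSpWith_of_source compLocal_smooth
    (fun X F Y hX hF hY q b hq hqs hqb => smLoc_descend isSmoothLocalST_locP hF hX hY hq hqs hqb)
    (repByAlgSp1_of_diag hΔ y) (hov l hls) (repByAlgSpWith_overMap_surj hlsurj) ?_
  show AlgSt.RepByAlgSpWith (LocP @Smooth) y'
  refine smooth_of_lifts (repByAlgSp1_of_diag hΔ y') ?_ ?_
  · intro Z z B _ I str hI2 g P₀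
    obtain ⟨o, ho, φ₀, hφ₀⟩ := P₀
    obtain ⟨u₀, mo, hmo⟩ := exists_vert_ov o ho
    haveI : CompactSpace ↥(smallPt I str).left := inferInstanceAs (CompactSpace ↥(Spec (CommRingCat.of (B ⧸ I))))
    obtain ⟨J, hJ⟩ := (isCompact_range u₀.left.continuous).elim_finite_subcover
      (fun p => ((Limits.Sigma.ι gM p).opensRange : Set ↥(∐ gM))) (fun p => (Limits.Sigma.ι gM p).opensRange.isOpen)
      (fun t _ => by
        obtain ⟨p, t', ht'⟩ := (sigmaOpenCover gM).exists_eq t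
        exact Set.mem_iUnion.2 ⟨p, t', ht'⟩)
    let OW : W.left.Opens := ⨆ p ∈ (J : Set ↥M.left), (Limits.Sigma.ι gM p).opensRange
    let OV : V.left.Opens := ⨆ p ∈ (J : Set ↥M.left), (Limits.Sigma.ι gA p).opensRange
    haveI hWp : ∀ p, IsAffine (gM p) := hMpA
    haveI hVp : ∀ p, IsAffine (gA p) := hApA
    have hOW : IsAffineOpen OW := IsAffineOpen.biSup_of_disjoint J.finite_toSet
      (fun p _ => isAffineOpen_opensRange _) (fun p _ q _ hpq => disjoint_opensRange_sigmaι gM p q hpq)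
    have hOV : IsAffineOpen OV := IsAffineOpen.biSup_of_disjoint J.finite_toSet
      (fun p _ => isAffineOpen_opensRange _) (fun p _ q _ hpq => disjoint_opensRange_sigmaι gA p q hpq)
    have hle : OW ≤ w ⁻¹ᵁ OV := by
      refine iSup₂_le fun p hp => ?_
      rintro _ ⟨t, rfl⟩
      refine (le_iSup₂_of_le (f := fun p (_ : p ∈ (J : Set ↥M.left)) => (Limits.Sigma.ι gA p).opensRange) p hp le_rfl :
        (Limits.Sigma.ι gA p).opensRange ≤ OV) ?_
      refine ⟨m.left.resLE (Ap p) (Mp p) (hMle p) t, ?_⟩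
      rw [← Scheme.Hom.comp_apply, ← Scheme.Hom.comp_apply]
      congr 1
      simp [w, gA, gM]
    let WJ : Over S := Over.mk (OW.ι ≫ W.hom)
    let VJ : Over S := Over.mk (OV.ι ≫ V.hom)
    let iW : WJ ⟶ W := Over.homMk OW.ι rfl
    let iV : VJ ⟶ V := Over.homMk OV.ι rfl
    let wJ : WJ ⟶ VJ := Over.homMk (w.resLE OV OW hle) (by
      show _ ≫ OV.ι ≫ V.hom = OW.ι ≫ W.hom
      rw [Scheme.Hom.resLE_comp_ι_assoc]
      exact congrArg (OW.ι ≫ ·) (Over.w w'))
    have hwJ : wJ ≫ iV = iW ≫ w' := Over.OverMorphism.ext (Scheme.Hom.resLE_comp_ι w hle)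
    have hr : Set.range u₀.left ⊆ Set.range OW.ι := by
      rw [Scheme.Opens.range_ι]
      intro t ht
      obtain ⟨p, hp, hpt⟩ := Set.mem_iUnion₂.1 (hJ ht)
      exact (le_iSup₂_of_le (f := fun p (_ : p ∈ (J : Set ↥M.left)) => (Limits.Sigma.ι gM p).opensRange) p hp le_rfl :
        (Limits.Sigma.ι gM p).opensRange ≤ OW) hpt
    let u₁ : smallPt I str ⟶ WJ := Over.homMk (IsOpenImmersion.lift OW.ι u₀.left hr) (by
      show _ ≫ OW.ι ≫ W.hom = _
      rw [IsOpenImmersion.lift_fac_assoc]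
      exact Over.w u₀)
    have hu₁ : u₁ ≫ iW = u₀ := Over.OverMorphism.ext (IsOpenImmersion.lift_fac _ _ _)
    haveI : IsAffine WJ.left := hOW
    haveI : IsAffine VJ.left := hOV
    let xJ := BasedFunctor.comp (AlgSt.overMap iW) x'
    let yJ := BasedFunctor.comp (AlgSt.overMap iW) y'
    let vJ := BasedFunctor.comp (AlgSt.overMap iV) v
    have hxJ : AlgSt.RepByAlgSpWith (LocP @Smooth) xJ :=
      repByAlgSpWith_comp compLocal_smooth (hov iW (inferInstanceAs (Smooth OW.ι))) hx'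
    have hvJ : AlgSt.RepByAlgSpWith (LocP @Smooth) vJ :=
      repByAlgSpWith_comp compLocal_smooth (hov iV (inferInstanceAs (Smooth OV.ι))) hv
    have hxyJ : φ.toEquiv WJ (IsoNat.objCls xJ) = IsoNat.objCls yJ := toEquiv_clAt φ hxy' (𝟙 WJ ≫ iW)
    have hcl : clAt yJ (𝟙 WJ) = clAt vJ wJ := by
      show clAt y ((𝟙 WJ ≫ iW) ≫ lW' ≫ L) = clAt a ((wJ ≫ iV) ≫ lV')
      rw [hwJ, Category.id_comp, Category.assoc, hw', ← Category.assoc iW lW' m, ← Category.assoc iW lW' L,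
        ← clAt_overMap y L, clAt_congr α, clAt_overMap]
    obtain ⟨e, he⟩ := clAt_eq_iff.1 hcl
    obtain ⟨mo', hmo'⟩ : ∃ mo' : o ⟶ (AlgSt.overMap iW).obj (ov u₁), mo'.left = eqToHom ho := by
      refine ⟨Over.homMk (eqToHom ho) ?_, rfl⟩
      show eqToHom ho ≫ u₁ ≫ iW = o.hom
      rw [hu₁]
      simpa [hmo] using Over.w mo
    let Q₀ : Pt yJ z (thick I str ≫ g) :=
      ⟨ov u₁, rfl, φ₀ ≫ y'.map mo', by simp [yJ, map_w, hφ₀, ov_p_map, hmo']⟩
    obtain ⟨Q, hQ⟩ := exists_lift_of_fIso φ hxyJ hxJ hvJ wJ e he z I str hI2 g Q₀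
    obtain ⟨b, hb, hbw⟩ := hQ.push (k := AlgSt.overMap iW) (f := y')
    refine ⟨Q.push, mo' ≫ b, ?_, ?_⟩
    · show (mo' ≫ b).left = _
      rw [Over.comp_left, show b.left = eqToHom _ ≫ thick I str ≫ eqToHom _ from hb, hmo']
      simp
    · rw [hbw]
      show (φ₀ ≫ y'.map mo') ≫ y'.map b = φ₀ ≫ y'.map (mo' ≫ b)
      simp
  · intro Z z I _ _ D c hc hD hT i g P
    exact exists_descend_of_fIso φ hxy' (repByAlgSpWith_mono (fun _ _ f _ _ h => locP_smooth_le_lfp f h) hx') hI z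
      D c hc hD hT i g P

end Groth.Agent.IsoSmLib
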