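import Groth.Agent.IsoSmLib.Core
import Groth.Agent.ASt.InertiaDiag
/-!
Descent of points along limits is detected by isomorphism classes when inertia is of finite presentation.
-/

set_option backward.isDefEq.respectTransparency false
set_option backward.isDefEq.respectTransparency.types false
set_option linter.unusedSectionVars false

universe u

open CategoryTheory CategoryTheory.Limits AlgebraicGeometry Opposite

namespace Groth.Agent.IsoSmLib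

open _root_.AlgSp Groth.Agent.ASt

variable {S : Scheme.{u}} {𝒳 𝒴 : AlgSt.Cat S} [h𝒳 : FibCat.IsFibGrpd 𝒳.p] [h𝒴 : FibCat.IsFibGrpd 𝒴.p]

/-- Descending points along limits transfers through an isomorphism of presheaves of classes. -/
theorem exists_descend_of_fIso (φ : IsoNat.FIso 𝒳 𝒴) {U : Over S} {x : FibCat.overCat U ⥤ᵇ 𝒳}
    {y : FibCat.overCat U ⥤ᵇ 𝒴} (hxy : φ.toEquiv U (IsoNat.objCls x) = IsoNat.objCls y)
    (hx : AlgSt.RepByAlgSpWith (LocP @LocallyOfFinitePresentation) x)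
    (hI : AlgSt.RepByAlgSpWith (LocP @LocallyOfFinitePresentation) (FibCat.inertiaToBase (FibCat.toSelf 𝒴)))
    {Z : Over S} (z : FibCat.overCat Z ⥤ᵇ 𝒴) {I : Type u} [SmallCategory I] [IsCofiltered I]
    (D : I ⥤ Over S) (c : Cone D) (hc : IsLimit ((Over.forget S).mapCone c))
    (hD : ∀ i, IsAffine (D.obj i).left) (hT : IsAffine c.pt.left) (i : I) (g : D.obj i ⟶ Z)
    (P : Pt y z (c.π.app i ≫ g)) :
    ∃ (j : I) (t : j ⟶ i) (P' : Pt y z (D.map t ≫ g)), ASt.clMap (c.π.app j) P'.el = P.el := by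
  haveI := isFibGrpd_inertia (FibCat.toSelf 𝒴)
  obtain ⟨o, ho, α, hα⟩ := P
  obtain ⟨u, m, hm⟩ := exists_vert_ov o ho
  obtain ⟨zη, hzη⟩ := exists_chart_fIso (fIsoSymm φ) (BasedFunctor.comp (AlgSt.overMap g) z)
  have hη : φ.toEquiv (D.obj i) (IsoNat.objCls zη) = IsoNat.objCls (BasedFunctor.comp (AlgSt.overMap g) z) :=
    ((Equiv.symm_apply_eq _).1 hzη).symm
  have hηk : ∀ {T : Over S} (k : T ⟶ D.obj i), φ.toEquiv T (clAt zη k) = clAt z (k ≫ g) := fun k =>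
    toEquiv_clAt φ hη k
  have hzu : clAt z (c.π.app i ≫ g) = clAt y u :=
    clAt_eq_iff.2 ⟨α ≫ y.map m, by simp [map_w, hα, ov_p_map, hm]⟩
  have hxu : clAt zη (c.π.app i ≫ 𝟙 _) = clAt x u := by
    refine (φ.toEquiv _).injective ((hηk _).trans ?_)
    rw [Category.comp_id, hzu, toEquiv_clAt φ hxy u]
  obtain ⟨β₀, hβ₀⟩ := clAt_eq_iff.1 hxu
  obtain ⟨j, t, ⟨oQ, hoQ, β₁, hβ₁⟩, aQ, haQ, -⟩ := exists_descend hx D c hc hD hT i (𝟙 (D.obj i))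
    ({ x := ov u, hx := rfl, φ := β₀, hφ := by simpa using hβ₀ } : Pt x zη (c.π.app i ≫ 𝟙 _))
  obtain ⟨uj, mQ, hmQ⟩ := exists_vert_ov oQ hoQ
  have huj : c.π.app j ≫ uj = u := by
    have h := Over.w (aQ ≫ mQ)
    rw [Over.comp_left, show aQ.left = eqToHom _ ≫ c.π.app j ≫ eqToHom hoQ.symm from haQ, hmQ] at h
    simpa using h
  have hzj : clAt z (D.map t ≫ g) = clAt y uj := by
    rw [← toEquiv_clAt φ hxy uj,
      ← show clAt zη (D.map t ≫ 𝟙 _) = clAt x uj from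
        clAt_eq_iff.2 ⟨β₁ ≫ x.map mQ, by simp [map_w, hβ₁, ov_p_map, hmQ]⟩,
      hηk, Category.comp_id]
  obtain ⟨β, hβ⟩ := clAt_eq_iff.1 hzj
  have hg : c.π.app j ≫ D.map t ≫ g = c.π.app i ≫ g := by rw [← Category.assoc, c.w]
  obtain ⟨βT, hβT, hβTv⟩ : ∃ βT : z.obj (ov (c.π.app i ≫ g)) ⟶ y.obj (ov u),
      βT ≫ y.map (ovHom (c.π.app j) huj) = z.map (ovHom (c.π.app j) hg) ≫ β ∧
      𝒴.p.map βT = eqToHom (((z.w_obj (ov (c.π.app i ≫ g))).trans (ov_base _)).trans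
        ((y.w_obj (ov u)).trans (ov_base u)).symm) := by
    refine ⟨facMap (y.map (ovHom (c.π.app j) huj)) (z.map (ovHom (c.π.app j) hg) ≫ β) (eqToHom _) ?_,
      facMap_comp _ _ _ _, map_facMap _ _ _ _⟩
    simp [map_w, hβ, ov_p_map]
  haveI : IsIso βT := isIso_of_vert βT hβTv
  have hα' : 𝒴.p.map (α ≫ y.map m) = eqToHom (((z.w_obj (ov (c.π.app i ≫ g))).trans (ov_base _)).trans
        ((y.w_obj (ov u)).trans (ov_base u)).symm) := by simp [map_w, hα, ov_p_map, hm]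
  haveI : IsIso (α ≫ y.map m) := isIso_of_vert _ hα'
  obtain ⟨γ, hγ⟩ : ∃ γ : z.obj (ov (c.π.app i ≫ g)) ≅ z.obj (ov (c.π.app i ≫ g)),
      γ.hom = (α ≫ y.map m) ≫ inv βT := ⟨asIso ((α ≫ y.map m) ≫ inv βT), rfl⟩
  have hγv : 𝒴.p.map γ.hom = 𝟙 _ := by
    rw [hγ, Functor.map_comp, CategoryTheory.Functor.map_inv, hα']
    simp [hβTv]
  let oI : (FibCat.inertia (FibCat.toSelf 𝒴)).obj := ⟨z.obj (ov (c.π.app i ≫ g)), γ, hγv⟩
  let z' : FibCat.overCat (D.obj j) ⥤ᵇ 𝒴 := BasedFunctor.comp (AlgSt.overMap (D.map t ≫ g)) z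
  let e₀ : (AlgSt.overMap (D.map t ≫ g)).obj (ov (c.π.app j ≫ 𝟙 _)) ⟶ ov (c.π.app i ≫ g) :=
    Over.homMk (𝟙 _) (by simp [AlgSt.overMap, hg])
  let P₁ : Pt (FibCat.inertiaToBase (FibCat.toSelf 𝒴)) z' (c.π.app j ≫ 𝟙 _) :=
    { x := oI, hx := (z.w_obj _).trans (ov_base _), φ := z.map e₀,
      hφ := by
        rw [map_w]
        simp [e₀, ov_p_map]
        erw [Category.id_comp, eqToHom_trans] }
  obtain ⟨k, s, ⟨oJ, hoJ, φ', hφ'⟩, a', ha', haw⟩ := exists_descend hI D c hc hD hT j (𝟙 (D.obj j)) P₁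
  let e₁ : ov (D.map (s ≫ t) ≫ g) ⟶ (AlgSt.overMap (D.map t ≫ g)).obj (ov (D.map s ≫ 𝟙 _)) :=
    Over.homMk (𝟙 _) (by simp [AlgSt.overMap])
  obtain ⟨φ'', hφ''⟩ : ∃ φ'' : z.obj (ov (D.map (s ≫ t) ≫ g)) ⟶ oJ.pt, φ'' = z.map e₁ ≫ φ' := ⟨_, rfl⟩
  have hφ''v : 𝒴.p.map φ'' = eqToHom (((z.w_obj (ov (D.map (s ≫ t) ≫ g))).trans (ov_base _)).trans hoJ.symm) := by
    rw [hφ'']
    simp [map_w, hφ', e₁, ov_p_map]
    erw [Category.id_comp]
    simp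
  haveI : IsIso φ'' := isIso_of_vert φ'' hφ''v
  have hjk : c.π.app k ≫ D.map (s ≫ t) ≫ g = c.π.app i ≫ g := by rw [← Category.assoc, c.w]
  let jk : ov (c.π.app i ≫ g) ⟶ ov (D.map (s ≫ t) ≫ g) := ovHom (c.π.app k) hjk
  have hA : z.map jk ≫ φ'' = a'.hom := by
    have hw : z.map _ ≫ φ' = z.map e₀ ≫ a'.hom := haw
    let e₀' : ov (c.π.app i ≫ g) ⟶ (AlgSt.overMap (D.map t ≫ g)).obj (ov (c.π.app j ≫ 𝟙 _)) :=
      Over.homMk (𝟙 _) (by simp [AlgSt.overMap, hg])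
    have he : e₀' ≫ e₀ = 𝟙 _ := Over.OverMorphism.ext (Category.id_comp _)
    have hid : z.map e₀' ≫ z.map e₀ ≫ a'.hom = a'.hom := by
      rw [← Category.assoc, ← Functor.map_comp, he, CategoryTheory.Functor.map_id, Category.id_comp]
    refine Eq.trans ?_ hid
    rw [← hw, hφ'',
      ← Category.assoc, ← Category.assoc, ← Functor.map_comp, ← Functor.map_comp]
    congr 2
  obtain ⟨δ, hδ⟩ : ∃ δ, δ = φ'' ≫ oJ.aut.hom ≫ inv φ'' := ⟨_, rfl⟩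
  have hδv : 𝒴.p.map δ = 𝟙 _ := by
    have haut : 𝒴.p.map oJ.aut.hom = 𝟙 _ := oJ.map_aut
    simp [hδ, haut]
  have hδw : z.map jk ≫ δ = γ.hom ≫ z.map jk := by
    have h2 : γ.hom ≫ a'.hom = a'.hom ≫ oJ.aut.hom := a'.comm
    rw [hδ, reassoc_of% hA, ← reassoc_of% h2, ← reassoc_of% hA]
    simp
  have hDs : D.map s ≫ D.map t ≫ g = D.map (s ≫ t) ≫ g := by simp
  obtain ⟨βk, hβk, hβkv⟩ : ∃ βk : z.obj (ov (D.map (s ≫ t) ≫ g)) ⟶ y.obj (ov (D.map s ≫ uj)),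
      βk ≫ y.map (ovHom (D.map s) rfl) = z.map (ovHom (D.map s) hDs) ≫ β ∧
      𝒴.p.map βk = eqToHom (((z.w_obj (ov (D.map (s ≫ t) ≫ g))).trans (ov_base _)).trans
        ((y.w_obj (ov (D.map s ≫ uj))).trans (ov_base _)).symm) := by
    refine ⟨facMap (y.map (ovHom (D.map s) rfl)) (z.map (ovHom (D.map s) hDs) ≫ β) (eqToHom _) ?_,
      facMap_comp _ _ _ _, map_facMap _ _ _ _⟩
    simp [map_w, hβ, ov_p_map]
  refine ⟨k, s ≫ t, ⟨ov (D.map s ≫ uj), rfl, δ ≫ βk, by simp [hδv, hβkv]⟩, ?_⟩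
  have huk : c.π.app k ≫ D.map s ≫ uj = u := by rw [← Category.assoc, c.w, huj]
  refine (Pt.Res.clMap (e := hjk) ⟨m ≫ ovHom (c.π.app k) huk, ?_, ?_⟩)
  · show (m ≫ ovHom (c.π.app k) huk).left = _
    simp [hm]
  show z.map jk ≫ δ ≫ βk = α ≫ y.map (m ≫ ovHom (c.π.app k) huk)
  have h3 : z.map jk ≫ βk = βT ≫ y.map (ovHom (c.π.app k) huk) := by
    refine hom_ext (y.map (ovHom (D.map s) (rfl : _ = D.map s ≫ uj)))
      (by simp [map_w, hβkv, hβTv, ov_p_map, jk]) ?_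
    have e1 : jk ≫ ovHom (D.map s) hDs = ovHom (c.π.app j) hg := Over.OverMorphism.ext (by simp [jk, ← Over.comp_left])
    have e2 : (ovHom (c.π.app k) huk : ov u ⟶ ov (D.map s ≫ uj)) ≫ ovHom (D.map s) (rfl : _ = D.map s ≫ uj) =
        ovHom (c.π.app j) huj := Over.OverMorphism.ext (by simp [← Over.comp_left])
    rw [Category.assoc, hβk, ← Category.assoc, ← Functor.map_comp, e1, ← hβT, Category.assoc, ← Functor.map_comp, e2]
  rw [reassoc_of% hδw, h3, hγ]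
  simp

end Groth.Agent.IsoSmLib
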