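import Groth.Agent.IsoSmLib.Glue0
import Groth.Agent.IsoNatClean.Double
/-!
The doubled scheme with a retraction onto a closed part on which the automorphism dies.
-/

set_option autoImplicit false
set_option backward.isDefEq.respectTransparency false
set_option backward.isDefEq.respectTransparency.types false
set_option linter.unusedSectionVars false

universe u

open CategoryTheory CategoryTheory.Limits AlgebraicGeometry

namespace Groth.Agent.IsoSmLib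

open Groth.Agent.ASt Groth.Agent.RepOne Groth.Agent.IsoNatClean

variable {S : Scheme.{u}} {𝒳 : AlgSt.Cat S} [h𝒳 : FibCat.IsFibGrpd 𝒳.p]

/-- Classes that are trivial on a cover with a retraction and on the closed part are trivial. -/
def Trivializes (x : 𝒳.obj) {B₀ : Over S} (ιB : B₀ ⟶ 𝒳.p.obj x) (rB : 𝒳.p.obj x ⟶ B₀) : Prop :=
  ∀ (T T' : Over S) (π : T' ⟶ T) [Flat π.left] [Surjective π.left] [LocallyOfFinitePresentation π.left]
    (p₀ : T ⟶ 𝒳.p.obj x) (T₀ : Over S) (ι : T₀ ⟶ T) [Mono ι] (ρ : T' ⟶ T') (ρ₀ : T' ⟶ T₀),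
    ρ₀ ≫ ι = ρ ≫ π → ρ ≫ π ≫ p₀ = π ≫ p₀ ≫ rB ≫ ιB →
    (∀ (V : Over S) (l : V ⟶ T') (c : V ⟶ B₀), l ≫ π ≫ p₀ = c ≫ ιB → l ≫ ρ = l) →
    (∀ (V : Over S) (t : V ⟶ T) (c : V ⟶ B₀), t ≫ p₀ = c ≫ ιB → ∃ m, m ≫ ι = t) →
    ∀ c' : ClType 𝒳 T, clMap π c' = clMap π (cl (pull x rfl p₀) (pull_base x rfl p₀)) →
      clMap ι c' = clMap ι (cl (pull x rfl p₀) (pull_base x rfl p₀)) →
      c' = cl (pull x rfl p₀) (pull_base x rfl p₀)

variable (hst : Stk.IsStack (AlgSp.J S) 𝒳) {x : 𝒳.obj} (s : Aut x) (hs : 𝒳.p.map s.hom = 𝟙 (𝒳.p.obj x))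

include hst hs in
/-- On a scheme with two disjoint opens there are three morphisms to `x`, the first agreeing with the others
on either open, and the last two agreeing along a section only if the automorphism is trivial. -/
theorem exists_doubled₀ {B₀ : Over S} (ιB : B₀ ⟶ 𝒳.p.obj x) [Mono ιB.left] (rB : 𝒳.p.obj x ⟶ B₀)
    (hs₀ : ∀ (z : 𝒳.obj) (φ : z ⟶ x) (c : 𝒳.p.obj z ⟶ B₀), 𝒳.p.map φ = c ≫ ιB → φ ≫ s.hom = φ)
    (H : Trivializes x ιB rB) {Z : Over S} (zT : Z ⟶ 𝒳.p.obj x) (ρZ : Z ⟶ Z) (hρZ : ρZ ≫ zT = zT ≫ rB ≫ ιB)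
    (hρZ' : ∀ {V : Over S} (l : V ⟶ Z) (c : V ⟶ B₀), l ≫ zT = c ≫ ιB → l ≫ ρZ = l) (D₁ D₂ : Z.left.Opens)
    (hD : D₁ ⊓ D₂ = ⊥) {y : 𝒳.obj} (hy : 𝒳.p.obj y = Z) (q : y ⟶ x) (hq : 𝒳.p.map q = eqToHom hy ≫ zT) :
    ∃ a b b' : y ⟶ x, 𝒳.p.map a = 𝒳.p.map q ∧ 𝒳.p.map b = 𝒳.p.map q ∧ 𝒳.p.map b' = 𝒳.p.map q ∧
      (∀ (z : 𝒳.obj) (φ : z ⟶ y), (∀ w, (eqToHom hy).left ((𝒳.p.map φ).left w) ∈ D₁) → φ ≫ a = φ ≫ b) ∧
      (∀ (z : 𝒳.obj) (φ : z ⟶ y), (∀ w, (eqToHom hy).left ((𝒳.p.map φ).left w) ∈ D₂) → φ ≫ a = φ ≫ b') ∧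
      (∀ ω : x ⟶ y, ω ≫ q = 𝟙 x → ω ≫ b = ω ≫ b' → s.hom = 𝟙 x) := by
  classical
  let W : Z.left.Opens := D₁ ⊔ D₂
  let u := pushout.inl W.ι W.ι
  let v := pushout.inr W.ι W.ι
  let ps : pushout W.ι W.ι ⟶ (𝒳.p.obj x).left := pushout.desc zT.left zT.left rfl
  let T : Over S := Over.mk (ps ≫ (𝒳.p.obj x).hom)
  let p₀ : T ⟶ 𝒳.p.obj x := Over.homMk ps
  let T' : Over S := Over.mk (coprod.desc u v ≫ T.hom)
  let π : T' ⟶ T := Over.homMk (coprod.desc u v)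
  have huT : u ≫ T.hom = Z.hom := by
    change u ≫ ps ≫ _ = _
    rw [pushout.inl_desc_assoc]; exact Over.w zT
  have hvT : v ≫ T.hom = Z.hom := by
    change v ≫ ps ≫ _ = _
    rw [pushout.inr_desc_assoc]; exact Over.w zT
  let i₁ : Z ⟶ T' := Over.homMk coprod.inl (by
    change _ ≫ coprod.desc u v ≫ T.hom = _
    rw [coprod.inl_desc_assoc, huT])
  let i₂ : Z ⟶ T' := Over.homMk coprod.inr (by
    change _ ≫ coprod.desc u v ≫ T.hom = _
    rw [coprod.inr_desc_assoc, hvT])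
  have hπu : ∀ a : Z.left, π.left ((coprod.inl : Z.left ⟶ Z.left ⨿ Z.left) a) = u a := fun a =>
    congrArg (fun f => f a) (coprod.inl_desc u v)
  have hπv : ∀ a : Z.left, π.left ((coprod.inr : Z.left ⟶ Z.left ⨿ Z.left) a) = v a := fun a =>
    congrArg (fun f => f a) (coprod.inr_desc u v)
  have huv : ∀ a : Z.left, a ∈ W → u a = v a := fun a ha =>
    congrArg (fun f => f ⟨a, ha⟩) (pushout.condition (f := W.ι) (g := W.ι))
  have hu : Function.Injective u := u.isOpenEmbedding.injective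
  have hdisj : ∀ a : Z.left, a ∈ D₁ → a ∈ D₂ → False := fun a h1 h2 => by
    have : a ∈ (D₁ ⊓ D₂ : Z.left.Opens) := ⟨h1, h2⟩
    rw [hD] at this
    exact this
  let χ : ↥T.left → ℤ := fun t => if t ∈ u '' (D₂ : Set Z.left) then 1 else 0
  let h : ↥T'.left → ℤ := sheet Z.left Z.left
  have hloc : ∀ {V : Over S} (l l' : V ⟶ T'), l ≫ π = l' ≫ π → IsLocallyConstant (expo π h χ l l') := by
    intro V l l' e
    let d : ↥V.left → ℤ := fun w => h (l'.left w) - h (l.left w)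
    have hd : IsLocallyConstant d := ((isLocallyConstant_sheet _ _).comp_continuous l'.left.continuous).sub
      ((isLocallyConstant_sheet _ _).comp_continuous l.left.continuous)
    refine (IsLocallyConstant.iff_exists_open _).2 fun w => ?_
    by_cases hw : d w = 0
    · refine ⟨d ⁻¹' {d w}, hd.isOpen_fiber _, rfl, fun w' hw' => ?_⟩
      change d w' * _ = d w * _
      rw [show d w' = d w from hw', hw, zero_mul, zero_mul]
    have e' : π.left (l.left w) = π.left (l'.left w) := congrArg (fun g => g.left w) e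
    have key : ∃ a, a ∈ W ∧ π.left (l.left w) = u a := by
      rcases sheet_cases (l.left w) with ⟨a, ha⟩ | ⟨a, ha⟩ <;> rcases sheet_cases (l'.left w) with ⟨b, hb⟩ | ⟨b, hb⟩
      · exact absurd (show d w = 0 by simp only [d, h, ← ha, ← hb, sheet_inl]; rfl) hw
      · rw [← ha, ← hb, hπu, hπv] at e'
        exact ⟨a, (pushout_eq_iff W e').2, by rw [← ha, hπu]⟩
      · rw [← ha, ← hb, hπu, hπv] at e'
        obtain ⟨rfl, hb'⟩ := pushout_eq_iff W e'.symm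
        exact ⟨b, hb', by rw [← ha, hπv, ← huv b hb']⟩
      · exact absurd (show d w = 0 by simp only [d, h, ← ha, ← hb, sheet_inr]; rfl) hw
    obtain ⟨a, ha, ha'⟩ := key
    have hO : ∀ D : Z.left.Opens, IsOpen ((fun w' => π.left (l.left w')) ⁻¹' (u '' (D : Set Z.left))) := fun D =>
      (u.isOpenEmbedding.isOpenMap _ D.2).preimage (π.left.continuous.comp l.left.continuous)
    rcases ha with ha | ha
    · refine ⟨d ⁻¹' {d w} ∩ _, (hd.isOpen_fiber _).inter (hO D₁), ⟨rfl, a, ha, ha'.symm⟩, fun w' hw' => ?_⟩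
      have h0 : ∀ a, a ∈ D₁ → χ (u a) = 0 := fun a ha => if_neg fun ⟨b, hb, e⟩ => hdisj a ha (hu e ▸ hb)
      obtain ⟨hw1, a', ha1, ha2⟩ := hw'
      change d w' * χ _ = d w * χ _
      rw [ha', show π.left (l.left w') = u a' from ha2.symm, h0 a ha, h0 a' ha1, mul_zero, mul_zero]
    · refine ⟨d ⁻¹' {d w} ∩ _, (hd.isOpen_fiber _).inter (hO D₂), ⟨rfl, a, ha, ha'.symm⟩, fun w' hw' => ?_⟩
      obtain ⟨hw1, hw2⟩ := hw'
      change d w' * χ _ = d w * χ _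
      rw [show d w' = d w from hw1, show χ (π.left (l.left w')) = 1 from if_pos hw2,
        show χ (π.left (l.left w)) = 1 from if_pos ⟨a, ha, ha'.symm⟩]
  have hflat := flat_coprod_desc u v
  haveI : Flat π.left := hflat.1
  haveI : LocallyOfFinitePresentation π.left := hflat.2
  haveI : Surjective π.left := ⟨fun t => by
    obtain ⟨k, t', rfl⟩ := Scheme.IsLocallyDirected.ι_jointly_surjective (span W.ι W.ι) t
    rcases k with _ | _ | _
    · refine ⟨(coprod.inl : Z.left ⟶ Z.left ⨿ Z.left) (W.ι t'), (hπu _).trans ?_⟩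
      exact congrArg (fun f => f t') (colimit.w (span W.ι W.ι) WalkingSpan.Hom.fst)
    · exact ⟨_, hπu t'⟩
    · exact ⟨_, hπv t'⟩⟩
  let T₀ : Over S := Over.mk (pullback.fst ps ιB.left ≫ T.hom)
  let ι : T₀ ⟶ T := Over.homMk (pullback.fst ps ιB.left)
  let κ : T₀ ⟶ B₀ := Over.homMk (pullback.snd ps ιB.left) (by
    change pullback.snd ps ιB.left ≫ B₀.hom = pullback.fst ps ιB.left ≫ ps ≫ _
    rw [pullback.condition_assoc, Over.w ιB])
  haveI : Mono ι.left := inferInstanceAs (Mono (pullback.fst ps ιB.left))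
  haveI : Mono ι := Over.mono_of_mono_left ι
  have hκ : ι ≫ p₀ = κ ≫ ιB := Over.OverMorphism.ext pullback.condition
  have hinl : coprod.inl ≫ π.left ≫ ps = zT.left := by
    change coprod.inl ≫ coprod.desc u v ≫ ps = _
    rw [coprod.inl_desc_assoc, pushout.inl_desc]
  have hinr : coprod.inr ≫ π.left ≫ ps = zT.left := by
    change coprod.inr ≫ coprod.desc u v ≫ ps = _
    rw [coprod.inr_desc_assoc, pushout.inr_desc]
  let ρ' : T'.left ⟶ T'.left := coprod.map ρZ.left ρZ.left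
  have hρ' : ρ' ≫ π.left ≫ ps = π.left ≫ ps ≫ rB.left ≫ ιB.left := by
    have hz : ρZ.left ≫ zT.left = zT.left ≫ rB.left ≫ ιB.left := congrArg CommaMorphism.left hρZ
    apply coprod.hom_ext
    · change coprod.inl ≫ coprod.map _ _ ≫ π.left ≫ ps = _
      rw [coprod.inl_map_assoc, hinl, reassoc_of% hinl, hz]
    · change coprod.inr ≫ coprod.map _ _ ≫ π.left ≫ ps = _
      rw [coprod.inr_map_assoc, hinr, reassoc_of% hinr, hz]
  let ρ : T' ⟶ T' := Over.homMk ρ' (by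
    change ρ' ≫ π.left ≫ ps ≫ (𝒳.p.obj x).hom = π.left ≫ ps ≫ (𝒳.p.obj x).hom
    rw [reassoc_of% hρ']
    simp only [Over.w ιB, Over.w rB])
  have hρ : ρ ≫ π ≫ p₀ = π ≫ p₀ ≫ rB ≫ ιB := Over.OverMorphism.ext hρ'
  let ρ₀ : T' ⟶ T₀ := Over.homMk (pullback.lift (ρ' ≫ π.left) (π.left ≫ ps ≫ rB.left)
    (by simp only [Category.assoc]; exact hρ')) (by
      change _ ≫ pullback.fst ps ιB.left ≫ T.hom = _
      rw [pullback.lift_fst_assoc]
      exact Over.w (ρ ≫ π))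
  have hρ₀ : ρ₀ ≫ ι = ρ ≫ π := Over.OverMorphism.ext (pullback.lift_fst _ _ _)
  have hfix : ∀ (V : Over S) (l : V ⟶ T') (c : V ⟶ B₀), l ≫ π ≫ p₀ = c ≫ ιB → l ≫ ρ = l := by
    intro V l c hc
    apply Over.OverMorphism.ext
    refine Scheme.hom_ext_of_forall _ _ fun t => ?_
    have side : ∀ (i : Z.left ⟶ T'.left) [IsOpenImmersion i], i ≫ π.left ≫ ps = zT.left → i ≫ ρ' = ρZ.left ≫ i →
        (∃ a, i a = l.left t) → ∃ (O : V.left.Opens), t ∈ O ∧ O.ι ≫ (l ≫ ρ).left = O.ι ≫ l.left := by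
      intro i _ hi hiρ ⟨a, ha⟩
      refine ⟨l.left ⁻¹ᵁ i.opensRange, ⟨a, ha⟩, ?_⟩
      have hr : Set.range ((l.left ⁻¹ᵁ i.opensRange).ι ≫ l.left) ⊆ Set.range i := by
        rintro _ ⟨b, rfl⟩
        exact b.2
      let m := IsOpenImmersion.lift i _ hr
      have hm : m ≫ i = (l.left ⁻¹ᵁ i.opensRange).ι ≫ l.left := IsOpenImmersion.lift_fac _ _ _
      have hbase : m ≫ zT.left = (l.left ⁻¹ᵁ i.opensRange).ι ≫ c.left ≫ ιB.left := by
        rw [← hi, ← Category.assoc, hm, Category.assoc]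
        exact congrArg (_ ≫ ·) (congrArg CommaMorphism.left hc)
      let mo : Over.mk ((l.left ⁻¹ᵁ i.opensRange).ι ≫ V.hom) ⟶ Z := Over.homMk m (by
        change m ≫ Z.hom = _
        rw [← Over.w zT, reassoc_of% hbase, Over.w ιB, Over.w c]
        rfl)
      let co : Over.mk ((l.left ⁻¹ᵁ i.opensRange).ι ≫ V.hom) ⟶ B₀ := Over.homMk ((l.left ⁻¹ᵁ i.opensRange).ι ≫ c.left) (by
        change (_ ≫ c.left) ≫ B₀.hom = _
        rw [Category.assoc, Over.w c]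
        rfl)
      have hmo : m ≫ ρZ.left = m :=
        congrArg CommaMorphism.left (hρZ' mo co (Over.OverMorphism.ext (hbase.trans (Category.assoc _ _ _).symm)))
      change _ ≫ l.left ≫ ρ' = _
      rw [← Category.assoc, ← hm, Category.assoc, hiρ, reassoc_of% hmo]
    rcases sheet_cases (l.left t) with ha | ha
    · obtain ⟨O, h1, h2⟩ := side coprod.inl hinl (coprod.inl_map _ _) ha
      exact ⟨O, h1, h2⟩
    · obtain ⟨O, h1, h2⟩ := side coprod.inr hinr (coprod.inr_map _ _) ha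
      exact ⟨O, h1, h2⟩
  have hfac : ∀ (V : Over S) (t : V ⟶ T) (c : V ⟶ B₀), t ≫ p₀ = c ≫ ιB → ∃ m, m ≫ ι = t := fun V t c hc =>
    ⟨Over.homMk (pullback.lift t.left c.left (congrArg CommaMorphism.left hc)) (by
      change _ ≫ pullback.fst ps ιB.left ≫ T.hom = _
      rw [pullback.lift_fst_assoc]
      exact Over.w t), Over.OverMorphism.ext (pullback.lift_fst _ _ _)⟩
  obtain ⟨G, hGb, hGn, hGt, hGi⟩ := exists_glue₀ hst s hs π h χ hloc p₀ ι
    (fun z φ l hl => hs₀ z φ (l ≫ κ) (by rw [← hl, hκ, Category.assoc]))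
    (H T T' π p₀ T₀ ι ρ ρ₀ hρ₀ hρ hfix hfac)
  let l₁ : 𝒳.p.obj y ⟶ T' := eqToHom hy ≫ i₁
  let l₂ : 𝒳.p.obj y ⟶ T' := eqToHom hy ≫ i₂
  have hi₁ : i₁ ≫ π ≫ p₀ = zT := by
    apply Over.OverMorphism.ext
    change coprod.inl ≫ coprod.desc u v ≫ ps = _
    rw [coprod.inl_desc_assoc, pushout.inl_desc]
  have hi₂ : i₂ ≫ π ≫ p₀ = zT := by
    apply Over.OverMorphism.ext
    change coprod.inr ≫ coprod.desc u v ≫ ps = _
    rw [coprod.inr_desc_assoc, pushout.inr_desc]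
  have e₁ : (l₁ ≫ π) ≫ p₀ = 𝒳.p.map q := by simp only [l₁, Category.assoc, hi₁, hq]
  have e₂ : (l₂ ≫ π) ≫ p₀ = 𝒳.p.map q := by simp only [l₂, Category.assoc, hi₂, hq]
  have hqs : 𝒳.p.map (q ≫ s.hom) = 𝒳.p.map q := by rw [Functor.map_comp, hs, Category.comp_id]
  have e₂' : (l₂ ≫ π) ≫ p₀ = 𝒳.p.map (q ≫ s.hom) := by rw [e₂, hqs]
  have key : ∀ (z : 𝒳.obj) (φ : z ⟶ y), (∀ w, (eqToHom hy).left ((𝒳.p.map φ).left w) ∈ W) →
      (𝒳.p.map φ ≫ l₁) ≫ π = (𝒳.p.map φ ≫ l₂) ≫ π := by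
    intro z φ hφ
    apply Over.OverMorphism.ext
    change ((𝒳.p.map φ).left ≫ (eqToHom hy).left ≫ coprod.inl) ≫ coprod.desc u v =
      ((𝒳.p.map φ).left ≫ (eqToHom hy).left ≫ coprod.inr) ≫ coprod.desc u v
    simp only [Category.assoc, coprod.inl_desc, coprod.inr_desc]
    let g := (𝒳.p.map φ).left ≫ (eqToHom hy).left
    have hg : Set.range g ⊆ Set.range W.ι := by
      rintro _ ⟨w, rfl⟩
      exact ⟨⟨_, hφ w⟩, rfl⟩
    simp only [← Category.assoc]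
    change g ≫ u = g ≫ v
    rw [← IsOpenImmersion.lift_fac W.ι g hg, Category.assoc, Category.assoc, pushout.condition]
  have hexp : ∀ (z : 𝒳.obj) (φ : z ⟶ y) (c : ℤ),
      (∀ w, χ (u ((eqToHom hy).left ((𝒳.p.map φ).left w))) = c) →
      ∀ w, expo π h χ (𝒳.p.map φ ≫ l₁) (𝒳.p.map φ ≫ l₂) w = c := fun z φ c hc w => by
    change (sheet _ _ ((coprod.inr : Z.left ⟶ Z.left ⨿ Z.left) _) - sheet _ _ ((coprod.inl : Z.left ⟶ Z.left ⨿ Z.left) _)) *
      χ (π.left ((coprod.inl : Z.left ⟶ Z.left ⨿ Z.left) _)) = c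
    rw [sheet_inr, sheet_inl, hπu, sub_zero, one_mul]
    exact hc w
  refine ⟨G y q l₁ e₁, G y q l₂ e₂, G y (q ≫ s.hom) l₂ e₂', hGb _ _ _ _, hGb _ _ _ _, (hGb _ _ _ _).trans hqs,
    fun z φ hφ => ?_, fun z φ hφ => ?_, fun ω hω hb => ?_⟩
  · have hW := key z φ fun w => .inl (hφ w)
    have h0 := hexp z φ 0 fun w => if_neg fun ⟨b, hb, e⟩ => hdisj _ (hφ w) (hu e ▸ hb)
    have htw := tw_eq_of_const hst s hs π h χ hloc (φ ≫ q) _ _ hW 0 h0
    rw [zpow_zero] at htw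
    have htw' : tw hst s hs π h χ hloc (φ ≫ q) _ _ hW = φ ≫ q := htw.trans (Category.comp_id _)
    rw [hGn, hGn, hGt z (φ ≫ q) _ _ _ hW (by rw [htw', Category.assoc, Category.assoc, Functor.map_comp, ← e₂]; simp)]
    congr 1
  · have hW := key z φ fun w => .inr (hφ w)
    have h1 := hexp z φ 1 fun w => if_pos ⟨_, hφ w, rfl⟩
    have htw := tw_eq_of_const hst s hs π h χ hloc (φ ≫ q) _ _ hW 1 h1
    rw [zpow_one] at htw
    rw [hGn, hGn, hGt z (φ ≫ q) _ _ _ hW (by rw [htw, Category.assoc φ q, Functor.map_comp, hqs, ← e₂]; simp)]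
    congr 1
    rw [htw, Category.assoc]
  · rw [hGn, hGn] at hb
    have h1 : ∀ (r : x ⟶ x) (hr : ((𝒳.p.map ω ≫ l₂) ≫ π) ≫ p₀ = 𝒳.p.map r) (r' : x ⟶ x)
        (hr' : ((𝒳.p.map ω ≫ l₂) ≫ π) ≫ p₀ = 𝒳.p.map r'),
        G x r (𝒳.p.map ω ≫ l₂) hr = G x r' (𝒳.p.map ω ≫ l₂) hr' → r = r' :=
      fun r hr r' hr' => hGi _ _ _ _ _ _
    have h2 := h1 _ _ _ _ hb
    rw [← Category.assoc, hω, Category.id_comp] at h2
    exact h2.symm

end Groth.Agent.IsoSmLib
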