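import Groth.Agent.IsoSmLib.Trivial
import Groth.Agent.IsoNatClean.Sep
/-!
An automorphism dying on a closed part with a retraction is trivial when such classes are trivial.
-/

set_option autoImplicit false
set_option backward.isDefEq.respectTransparency false
set_option backward.isDefEq.respectTransparency.types false
set_option linter.unusedSectionVars false

universe u

open CategoryTheory CategoryTheory.Limits AlgebraicGeometry

namespace Groth.Agent.IsoSmLib

open Groth.Agent.ASt Groth.Agent.RepOne Groth.Agent.IsoNatClean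

variable {S : Scheme.{u}} {𝒳 : AlgSt.Cat S} [h𝒳 : FibCat.IsFibGrpd 𝒳.p]
  (hst : Stk.IsStack (AlgSp.J S) 𝒳)
  (hd : AlgSt.RepByAlgSpWith (AlgSp.IsSeparatedMor ⊓ AlgSp.IsQuasiCompactMor)
    (FibCat.diag (FibCat.toSelf 𝒳)))

include hst hd in
/-- Separated classes kill automorphisms over an affine base: the ring-theoretic core. -/
theorem eq_id_of_rings₀ {x : 𝒳.obj} (s : Aut x) (hs : 𝒳.p.map s.hom = 𝟙 (𝒳.p.obj x)) {B₀ : Over S}
    (ιB : B₀ ⟶ 𝒳.p.obj x) [Mono ιB.left] (rB : 𝒳.p.obj x ⟶ B₀)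
    (hs₀ : ∀ (z : 𝒳.obj) (φ : z ⟶ x) (c : 𝒳.p.obj z ⟶ B₀), 𝒳.p.map φ = c ≫ ιB → φ ≫ s.hom = φ)
    (H : Trivializes x ιB rB)
    {R P L : CommRingCat.{u}} (e : (𝒳.p.obj x).left ≅ Spec R) (C : R ⟶ P) (θ : P ⟶ P)
    (hθ : Spec.map θ ≫ Spec.map C ≫ e.inv = Spec.map C ≫ e.inv ≫ rB.left ≫ ιB.left)
    (hθ' : ∀ (V : Scheme.{u}) (l : V ⟶ Spec P) (c : V ⟶ B₀.left), l ≫ Spec.map C ≫ e.inv = c ≫ ιB.left →
      l ≫ Spec.map θ = l) (f₁ f₂ : P ⟶ L) (ev : L ⟶ R)
    (hC : C ≫ f₁ ≫ ev = 𝟙 R) (hf : f₁ ≫ ev = f₂ ≫ ev) (a₁ a₂ : P) (ha : a₁ * a₂ = 0)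
    {M : CommRingCat.{u}} (j : L ⟶ M) (hj : Function.Injective j.hom)
    (hu₁ : IsUnit (j.hom (f₁.hom a₁))) (hu₂ : IsUnit (j.hom (f₂.hom a₂))) : s.hom = 𝟙 x := by
  let B := 𝒳.p.obj x
  let Z : Over S := Over.mk ((Spec.map C ≫ e.inv) ≫ B.hom)
  let zT : Z ⟶ B := Over.homMk (Spec.map C ≫ e.inv)
  let D₁ : Z.left.Opens := PrimeSpectrum.basicOpen a₁
  let D₂ : Z.left.Opens := PrimeSpectrum.basicOpen a₂
  have hD : D₁ ⊓ D₂ = ⊥ := by
    refine (PrimeSpectrum.basicOpen_mul a₁ a₂).symm.trans ?_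
    rw [ha, PrimeSpectrum.basicOpen_zero]
  let y := pull x rfl zT
  let hy : 𝒳.p.obj y = Z := pull_base x rfl zT
  let q : y ⟶ x := pullHom x rfl zT
  have hq : 𝒳.p.map q = eqToHom hy ≫ zT :=
    (map_pullHom x rfl zT).trans (congrArg (eqToHom hy ≫ ·) (Category.comp_id zT))
  let ρZ : Z ⟶ Z := Over.homMk (Spec.map θ) (by
    change Spec.map θ ≫ (Spec.map C ≫ e.inv) ≫ B.hom = (Spec.map C ≫ e.inv) ≫ B.hom
    simp only [Category.assoc]
    rw [reassoc_of% hθ]
    simp only [B, Over.w ιB, Over.w rB])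
  have hρZ : ρZ ≫ zT = zT ≫ rB ≫ ιB := Over.OverMorphism.ext (hθ.trans (Category.assoc _ _ _).symm)
  have hρZ' : ∀ {V : Over S} (l : V ⟶ Z) (c : V ⟶ B₀), l ≫ zT = c ≫ ιB → l ≫ ρZ = l := fun l c hc =>
    Over.OverMorphism.ext (hθ' _ l.left c.left (congrArg CommaMorphism.left hc))
  obtain ⟨a, b, b', ha', hb, hb', h1, h2, h3⟩ :=
    exists_doubled₀ hst s hs ιB rB hs₀ H zT ρZ hρZ hρZ' D₁ D₂ hD hy q hq
  let z₀ : B ⟶ Z := Over.homMk (e.hom ≫ Spec.map (f₁ ≫ ev)) (by
    change (e.hom ≫ Spec.map (f₁ ≫ ev)) ≫ (Spec.map C ≫ e.inv) ≫ B.hom = B.hom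
    simp only [Category.assoc]
    rw [← Spec.map_comp_assoc, hC]
    simp)
  have hz₀ : z₀ ≫ zT = 𝟙 B := by
    apply Over.OverMorphism.ext
    change (e.hom ≫ Spec.map (f₁ ≫ ev)) ≫ Spec.map C ≫ e.inv = 𝟙 _
    rw [Category.assoc, ← Spec.map_comp_assoc, hC, Spec.map_id, Category.id_comp, Iso.hom_inv_id]
  let ω : x ⟶ y := facMap q (𝟙 x) (z₀ ≫ eqToHom hy.symm) (by
    rw [hq, 𝒳.p.map_id, Category.assoc, eqToHom_trans_assoc, eqToHom_refl, Category.id_comp, hz₀])
  have hω : ω ≫ q = 𝟙 x := facMap_comp _ _ _ _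
  suffices key : ∀ (f : P ⟶ L) (d : P), IsUnit (j.hom (f.hom d)) → f ≫ ev = f₁ ≫ ev → ∀ c c' : y ⟶ x,
      𝒳.p.map c = 𝒳.p.map q → 𝒳.p.map c' = 𝒳.p.map q →
      (∀ (z : 𝒳.obj) (φ : z ⟶ y), (∀ w, (eqToHom hy).left ((𝒳.p.map φ).left w) ∈ PrimeSpectrum.basicOpen d) →
        φ ≫ c = φ ≫ c') → ω ≫ c = ω ≫ c' from
    h3 ω hω ((key f₁ a₁ hu₁ rfl a b ha' hb h1).symm.trans (key f₂ a₂ hu₂ hf.symm a b' ha' hb' h2))
  intro f d hdu hfev c c' hc hc' hcc
  let A : Over S := Over.mk (Spec.map f ≫ Z.hom)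
  let g : A ⟶ Z := Over.homMk (Spec.map f)
  let yA := pull y hy g
  let ψ : yA ⟶ y := pullHom y hy g
  have hψ : 𝒳.p.map ψ = eqToHom (pull_base y hy g) ≫ g ≫ eqToHom hy.symm := map_pullHom _ _ _
  let A' : Over S := Over.mk (Spec.map j ≫ A.hom)
  let g' : A' ⟶ A := Over.homMk (Spec.map j)
  let φ := pullHom yA (pull_base y hy g) g'
  have hline : ψ ≫ c = ψ ≫ c' := by
    refine ext_dense hd (by rw [Functor.map_comp, Functor.map_comp, hc, hc']) φ ?_ ?_
    · intro E e' k he' hk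
      have he'' : IsClosedImmersion (e' ≫ eqToHom (pull_base y hy g)).left := by
        change IsClosedImmersion (e'.left ≫ (eqToHom (pull_base y hy g)).left)
        infer_instance
      have hk' : (eqToHom (pull_base yA (pull_base y hy g) g').symm ≫ k) ≫
          e' ≫ eqToHom (pull_base y hy g) = g' := by
        rw [Category.assoc, reassoc_of% hk]
        simp [φ]
      have := isIso_of_dense j hj (e' ≫ eqToHom (pull_base y hy g)).left
        (eqToHom (pull_base yA (pull_base y hy g) g').symm ≫ k).left (congrArg (fun m => m.left) hk')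
      have : IsIso (e' ≫ eqToHom (pull_base y hy g)) :=
        have : IsIso ((Over.forget S).map (e' ≫ eqToHom (pull_base y hy g))) := this
        isIso_of_reflects_iso _ (Over.forget S)
      exact IsIso.of_isIso_comp_right e' (eqToHom (pull_base y hy g))
    · refine (Category.assoc _ _ _).symm.trans ((hcc _ (φ ≫ ψ) fun w => ?_).trans (Category.assoc _ _ _))
      have hmap : 𝒳.p.map (φ ≫ ψ) ≫ eqToHom hy = eqToHom (pull_base yA (pull_base y hy g) g') ≫ g' ≫ g := by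
        rw [Functor.map_comp, hψ]
        simp [φ, yA]
      have hw := congrArg (fun m => m.left w) hmap
      refine (show _ = _ from hw) ▸ ?_
      change (Spec.map f) ((Spec.map j) _) ∈ _
      rw [← Scheme.Hom.comp_apply, ← Spec.map_comp]
      exact mem_basicOpen_of_isUnit (f ≫ j) hdu _
  let zA : B ⟶ A := Over.homMk (e.hom ≫ Spec.map ev) (by
    change (e.hom ≫ Spec.map ev) ≫ Spec.map f ≫ Z.hom = B.hom
    rw [Category.assoc, ← Spec.map_comp_assoc, hfev]
    exact (Category.assoc _ _ _).symm.trans (Over.w z₀))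
  have hzA : zA ≫ g = z₀ := by
    apply Over.OverMorphism.ext
    change (e.hom ≫ Spec.map ev) ≫ Spec.map f = e.hom ≫ Spec.map (f₁ ≫ ev)
    rw [Category.assoc, ← Spec.map_comp, hfev]
  have hfac : facMap ψ ω (zA ≫ eqToHom (pull_base y hy g).symm) (by
      rw [hψ, show 𝒳.p.map ω = _ from map_facMap _ _ _ _, ← hzA]
      simp) ≫ ψ = ω := facMap_comp _ _ _ _
  exact (congrArg (· ≫ c) hfac).symm.trans (((Category.assoc _ _ _).trans
    ((congrArg _ hline).trans (Category.assoc _ _ _).symm)).trans (congrArg (· ≫ c') hfac))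

/-- Morphisms to an affine scheme meeting a retracted endomorphism on the closed part are fixed by it. -/
theorem comp_specMap_eq {A P Q : CommRingCat.{u}} (C : A ⟶ P) (m : A ⟶ Q) (θ : P ⟶ P)
    (hC : ∀ a, ∃ a', θ.hom (C.hom a) = C.hom a' ∧ m.hom a' = m.hom a) (G : Set P)
    (hG : Subring.closure (Set.range C.hom ∪ G) = ⊤) (hfix : ∀ g ∈ G, θ.hom g = g)
    {V : Scheme.{u}} (l : V ⟶ Spec P) (c : V ⟶ Spec Q) (h : l ≫ Spec.map C = c ≫ Spec.map m) :
    l ≫ Spec.map θ = l := by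
  refine ext_of_isAffine ?_
  let f : P ⟶ Γ(V, ⊤) := (Scheme.ΓSpecIso P).inv ≫ l.appTop
  have h1 : C ≫ f = m ≫ (Scheme.ΓSpecIso Q).inv ≫ c.appTop := by
    have := congrArg Scheme.Hom.appTop h
    rw [Scheme.Hom.comp_appTop, Scheme.Hom.comp_appTop] at this
    simp only [f]
    rw [Scheme.ΓSpecIso_inv_naturality_assoc, Scheme.ΓSpecIso_inv_naturality_assoc, this]
  have h2 : θ ≫ f = f := by
    refine CommRingCat.hom_ext (RingHom.eq_of_eqOn_set_top fun p _ => ?_)
    have hle : Subring.closure (Set.range C.hom ∪ G) ≤ RingHom.eqLocus (θ ≫ f).hom f.hom := by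
      rw [Subring.closure_le]
      rintro _ (⟨a, rfl⟩ | hg)
      · obtain ⟨a', ha', hm⟩ := hC a
        change f.hom (θ.hom (C.hom a)) = f.hom (C.hom a)
        rw [ha']
        have e := fun b => RingHom.congr_fun (congrArg CommRingCat.Hom.hom h1) b
        exact (e a').trans ((congrArg (fun t => ((Scheme.ΓSpecIso Q).inv ≫ c.appTop).hom t) hm).trans (e a).symm)
      · exact congrArg f.hom (hfix _ hg)
    rw [hG] at hle
    exact hle (Subring.mem_top p)
  rw [Scheme.Hom.comp_appTop]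
  have h3 : (Spec.map θ).appTop = (Scheme.ΓSpecIso P).hom ≫ θ ≫ (Scheme.ΓSpecIso P).inv := by
    rw [← Scheme.ΓSpecIso_naturality_assoc, Iso.hom_inv_id, Category.comp_id]
  rw [h3, Category.assoc, Category.assoc]
  exact ((congrArg ((Scheme.ΓSpecIso P).hom ≫ ·) h2).trans (Iso.hom_inv_id_assoc _ _))

include hst hd in
/-- An automorphism that is the identity on a closed part with retraction is the identity. -/
theorem eq_id_of_retract {A : CommRingCat.{u}} (I : Ideal A) (σ : A ⧸ I →+* A)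
    (hσ : (Ideal.Quotient.mk I).comp σ = RingHom.id _) {x : 𝒳.obj} (eB : (𝒳.p.obj x).left ≅ Spec A)
    (s : Aut x) (hs : 𝒳.p.map s.hom = 𝟙 (𝒳.p.obj x)) {B₀ : Over S} (e₀ : B₀.left ≅ Spec (CommRingCat.of (A ⧸ I)))
    (ιB : B₀ ⟶ 𝒳.p.obj x) (hι : ιB.left = e₀.hom ≫ Spec.map (CommRingCat.ofHom (Ideal.Quotient.mk I)) ≫ eB.inv)
    (rB : 𝒳.p.obj x ⟶ B₀) (hr : rB.left = eB.hom ≫ Spec.map (CommRingCat.ofHom σ) ≫ e₀.inv)
    (hs₀ : ∀ (z : 𝒳.obj) (φ : z ⟶ x) (c : 𝒳.p.obj z ⟶ B₀), 𝒳.p.map φ = c ≫ ιB → φ ≫ s.hom = φ)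
    (H : Trivializes x ιB rB) : s.hom = 𝟙 x := by
  let R : CommRingCat.{u} := A
  haveI : IsClosedImmersion (Spec.map (CommRingCat.ofHom (Ideal.Quotient.mk I))) :=
    IsClosedImmersion.spec_of_surjective _ Ideal.Quotient.mk_surjective
  haveI : Mono ιB.left := by rw [hι]; infer_instance
  let P : CommRingCat.{u} :=
    .of (MvPolynomial (Fin 2) R ⧸ Ideal.span {(MvPolynomial.X 0 * MvPolynomial.X 1 : MvPolynomial (Fin 2) R)})
  let L : CommRingCat.{u} := .of (Polynomial R)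
  let π : MvPolynomial (Fin 2) R →+* P := Ideal.Quotient.mk _
  let F : ∀ v : Fin 2 → Polynomial R, v 0 * v 1 = 0 → (P ⟶ L) := fun v hv =>
    CommRingCat.ofHom (Ideal.Quotient.lift _ (MvPolynomial.eval₂Hom Polynomial.C v) fun p hp => by
      obtain ⟨r, rfl⟩ := Ideal.mem_span_singleton'.1 hp
      simp [hv])
  let f₁ := F ![Polynomial.X, 0] (by simp)
  let f₂ := F ![0, Polynomial.X] (by simp)
  let C : R ⟶ P := CommRingCat.ofHom (π.comp MvPolynomial.C)
  let θR : R →+* R := σ.comp (Ideal.Quotient.mk I)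
  have hπ0 : π (MvPolynomial.X 0) * π (MvPolynomial.X 1) = 0 := by
    rw [← map_mul]
    exact Ideal.Quotient.eq_zero_iff_mem.2 (Ideal.subset_span rfl)
  let θ : P ⟶ P := CommRingCat.ofHom (Ideal.Quotient.lift _
    (MvPolynomial.eval₂Hom (C.hom.comp θR) fun i => π (MvPolynomial.X i)) fun p hp => by
      obtain ⟨r, rfl⟩ := Ideal.mem_span_singleton'.1 hp
      simp [hπ0])
  have hθC : C ≫ θ = CommRingCat.ofHom θR ≫ C := by
    ext r
    change MvPolynomial.eval₂Hom (C.hom.comp θR) _ (MvPolynomial.C r) = _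
    simp
  let ev : L ⟶ R := CommRingCat.ofHom (Polynomial.evalRingHom 0)
  let j : L ⟶ CommRingCat.of (Localization.Away (Polynomial.X : Polynomial R)) :=
    CommRingCat.ofHom (algebraMap _ _)
  have hj : Function.Injective j.hom := by
    refine IsLocalization.injective (M := Submonoid.powers (Polynomial.X : Polynomial R))
      (Localization.Away (Polynomial.X : Polynomial R)) ?_
    rw [Submonoid.powers_le]
    exact (Polynomial.monic_X).mem_nonZeroDivisors
  have hu : IsUnit (j.hom (Polynomial.X : Polynomial R)) :=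
    IsLocalization.Away.algebraMap_isUnit (Polynomial.X : Polynomial R)
  refine eq_id_of_rings₀ hst hd s hs ιB rB hs₀ H eB C θ ?_ ?_ f₁ f₂ ev ?_ ?_ (π (MvPolynomial.X 0))
    (π (MvPolynomial.X 1)) hπ0 j hj
    (show IsUnit (j.hom (MvPolynomial.eval₂Hom Polynomial.C ![Polynomial.X, 0] (MvPolynomial.X 0))) by simpa using hu)
    (show IsUnit (j.hom (MvPolynomial.eval₂Hom Polynomial.C ![0, Polynomial.X] (MvPolynomial.X 1))) by simpa using hu)
  · rw [← Spec.map_comp_assoc, hθC, Spec.map_comp, hι, hr]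
    simp only [θR, CommRingCat.ofHom_comp, Spec.map_comp, Category.assoc, Iso.inv_hom_id_assoc]
  · intro V l c hc
    refine comp_specMap_eq C (CommRingCat.ofHom (Ideal.Quotient.mk I)) θ (fun a => ⟨θR a,
      RingHom.congr_fun (congrArg CommRingCat.Hom.hom hθC) a, RingHom.congr_fun hσ (Ideal.Quotient.mk I a)⟩)
      (Set.range fun i => π (MvPolynomial.X i)) ?_ ?_ l (c ≫ e₀.hom) ?_
    · refine eq_top_iff.2 fun p hp₀ => ?_
      obtain ⟨p, rfl⟩ := Ideal.Quotient.mk_surjective p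
      clear hp₀
      induction p using MvPolynomial.induction_on with
      | C a => exact Subring.subset_closure (Or.inl ⟨a, rfl⟩)
      | add p q hp hq => rw [map_add]; exact add_mem hp hq
      | mul_X p i hp => rw [map_mul]; exact mul_mem hp (Subring.subset_closure (Or.inr ⟨i, rfl⟩))
    · rintro _ ⟨i, rfl⟩
      change MvPolynomial.eval₂Hom (C.hom.comp θR) _ (MvPolynomial.X i) = _
      simp
    · rw [← cancel_mono eB.inv, Category.assoc, hc, hι]
      simp
  · ext r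
    change Polynomial.eval 0 (MvPolynomial.eval₂Hom Polynomial.C ![Polynomial.X, 0] (MvPolynomial.C r)) = r
    simp
  · refine CommRingCat.hom_ext (Ideal.Quotient.ringHom_ext (MvPolynomial.ringHom_ext (fun r => ?_) fun i => ?_))
    · change Polynomial.eval 0 (MvPolynomial.eval₂Hom Polynomial.C ![Polynomial.X, 0] (MvPolynomial.C r)) =
        Polynomial.eval 0 (MvPolynomial.eval₂Hom Polynomial.C ![0, Polynomial.X] (MvPolynomial.C r))
      simp
    · change Polynomial.eval 0 (MvPolynomial.eval₂Hom Polynomial.C ![Polynomial.X, 0] (MvPolynomial.X i)) =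
        Polynomial.eval 0 (MvPolynomial.eval₂Hom Polynomial.C ![0, Polynomial.X] (MvPolynomial.X i))
      fin_cases i <;> simp

end Groth.Agent.IsoSmLib
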