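import Groth.Agent.IsoSmLib.Lift
import Groth.Agent.IsoNatClean.Twist
import Groth.Agent.ASp.Infinitesimal
/-!
Automorphisms seen by an etale morphism are rigid along square zero thickenings.
-/

set_option backward.isDefEq.respectTransparency false
set_option backward.isDefEq.respectTransparency.types false
set_option linter.unusedSectionVars false

universe u

open CategoryTheory CategoryTheory.Limits AlgebraicGeometry Opposite

namespace Groth.Agent.IsoSmLib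

open _root_.AlgSp Groth.Agent.ASt

variable {S : Scheme.{u}}

section uniq

variable {𝒳 𝒴 : AlgSt.Cat S} [h𝒳 : FibCat.IsFibGrpd 𝒳.p] [h𝒴 : FibCat.IsFibGrpd 𝒴.p]
variable {f : 𝒳 ⥤ᵇ 𝒴} {Z : Over S} {z : FibCat.overCat Z ⥤ᵇ 𝒴} {A : Type u} [CommRing A] (I : Ideal A)
  (str : Spec (CommRingCat.of A) ⟶ S)

/-- Lifts along thickenings are unique for an etale representable morphism. -/
theorem el_unique (hf : AlgSt.RepByAlgSpWith (LocP (@LocallyOfFiniteType ⊓ @FormallyUnramified)) f) (hI : I ^ 2 = ⊥) {g : bigPt str ⟶ Z}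
    {g₀ : smallPt I str ⟶ Z} {e : thick I str ≫ g = g₀} {P₀ P₀' : Pt f z g₀} {P P' : Pt f z g}
    (h : Pt.Res (thick I str) e P₀ P) (h' : Pt.Res (thick I str) e P₀' P') (h₀ : P₀.el = P₀'.el) :
    P.el = P'.el := by
  obtain ⟨hs, hA, hP⟩ := (repByAlgSpWith_iff.1 hf).2 Z z
  let F : AlgSp.Space S := ⟨⟨fib z f, hs⟩, hA⟩
  let π : F.obj ⟶ (yon S).obj Z := ObjectProperty.homMk (fibπ z f)
  have hfu : IsFormallyUnramifiedMor π := by
    obtain ⟨U', V', p, q, h, hp, hps, hq, hqs, e⟩ :=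
      Groth.Agent.Inf.exists_chart (f := π) F.property (IsAlgSpace.yon_obj Z)
    exact Groth.Agent.Inf.isFormallyUnramifiedMor_of_chart hp hps hq e (hP p q h hp hq e).2
  have key : ∀ (k : bigPt str ⟶ Z) (Q : Pt f z k),
      (homOf (F := F.obj) Q.el) ≫ π = (yon S).map k := fun k Q => by
    refine secOf_injective ?_
    rw [secOf_comp, secOf_homOf]
    change (fibπ z f).app (op _) Q.el = _
    rw [fibπ_app, Q.fpHom_el]
    exact congrArg ULift.up (Category.id_comp k).symm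
  let sq : InfSq π := { A := A, I := I, sq_zero := hI, str := str,
                        top := (yon S).map (thick I str) ≫ homOf P.el, bot := (yon S).map g,
                        comm := by rw [Category.assoc, key] }
  have := hfu sq (homOf (F := F.obj) P.el) (homOf (F := F.obj) P'.el) rfl (key g P)
    (secOf_injective (by
      rw [secOf_map, secOf_homOf]
      change ASt.clMap (thick I str) P'.el = secOf ((yon S).map (thick I str) ≫ homOf (F := F.obj) P.el)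
      rw [secOf_map, secOf_homOf]
      exact h'.clMap.trans (h₀.symm.trans h.clMap.symm))) (key g P')
  rw [← secOf_homOf (F := F.obj) P.el, this, secOf_homOf]

end uniq

variable {𝒳 : AlgSt.Cat S} [h𝒳 : FibCat.IsFibGrpd 𝒳.p] {U : Over S} {x : FibCat.overCat U ⥤ᵇ 𝒳}

/-- An automorphism of a value of an etale morphism that restricts to the identity is the identity. -/
theorem auto_eq_id (hx : AlgSt.RepByAlgSpWith (LocP (@LocallyOfFiniteType ⊓ @FormallyUnramified)) x) {A : Type u} [CommRing A] (I : Ideal A)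
    (str : Spec (CommRingCat.of A) ⟶ S) (hI : I ^ 2 = ⊥) (w : bigPt str ⟶ U)
    (a : x.obj (ov w) ⟶ x.obj (ov w)) (ha : 𝒳.p.map a = 𝟙 _)
    (h : x.map (ovHom (thick I str) (rfl : _ = thick I str ≫ w)) ≫ a = x.map (ovHom (thick I str) rfl)) :
    a = 𝟙 _ := by
  let Q₀ : Pt x x (thick I str ≫ w) :=
    { x := ov (thick I str ≫ w), hx := rfl, φ := 𝟙 _, hφ := by simp }
  let P : Pt x x w := { x := ov w, hx := rfl, φ := 𝟙 _, hφ := by simp }
  let P' : Pt x x w := { x := ov w, hx := rfl, φ := a, hφ := by simp [ha] }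
  have hel := el_unique I str hx hI (P₀ := Q₀) (P₀' := Q₀) (P := P) (P' := P') (e := rfl)
    ⟨ovHom (thick I str) rfl, by simp [Q₀, P, ov_p_map], by simp [Q₀, P]⟩
    ⟨ovHom (thick I str) rfl, by simp [Q₀, P', ov_p_map], by simpa [Q₀, P'] using h⟩ rfl
  obtain ⟨m, hm, hm'⟩ := fpEl_eq_iff.1 hel
  have : m = 𝟙 _ := Over.OverMorphism.ext ((hm.trans (eqToHom_refl _ _)).trans rfl)
  rw [this] at hm'
  simpa [P, P'] using hm'.symm

/-- Rigidity: morphisms to a value of an etale morphism agreeing on a square zero closed part agree. -/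
theorem rigid (hst : Stk.IsStack (AlgSp.J S) 𝒳) (hx : AlgSt.RepByAlgSpWith (LocP (@LocallyOfFiniteType ⊓ @FormallyUnramified)) x) {W : Over S} (w : W ⟶ U)
    {z : 𝒳.obj} {τ τ' : z ⟶ x.obj (ov w)} (hb : 𝒳.p.map τ = 𝒳.p.map τ') {K : Type u} [CommRing K] (J : Ideal K)
    (hJ : J ^ 2 = ⊥) (β : (𝒳.p.obj z).left ⟶ Spec (CommRingCat.of K))
    (h : ∀ (z' : 𝒳.obj) (φ : z' ⟶ z) (c : (𝒳.p.obj z').left ⟶ Spec (CommRingCat.of (K ⧸ J))),
      (𝒳.p.map φ).left ≫ β = c ≫ Spec.map (CommRingCat.ofHom (Ideal.Quotient.mk J)) → φ ≫ τ = φ ≫ τ') :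
    τ = τ' := by
  refine IsoNatClean.ext_local hst hb fun t => ?_
  obtain ⟨V, hV, htV, -⟩ := exists_isAffineOpen_mem_and_subset (U := ⊤) (show t ∈ (⊤ : (𝒳.p.obj z).left.Opens) from trivial)
  refine ⟨V, htV, fun y φ hφ => ?_⟩
  let R : CommRingCat.{u} := Γ((𝒳.p.obj z).left, V)
  let str : Spec R ⟶ S := hV.fromSpec ≫ (𝒳.p.obj z).hom
  let gT : Over.mk str ⟶ 𝒳.p.obj z := Over.homMk hV.fromSpec
  obtain ⟨κ, hκ⟩ := Spec.map_surjective (hV.fromSpec ≫ β)
  let I : Ideal R := J.map κ.hom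
  have hI : I ^ 2 = ⊥ := by rw [← Ideal.map_pow, hJ, Ideal.map_bot]
  let zT := pull z rfl gT
  let ψ : zT ⟶ z := pullHom z rfl gT
  let g' : Over.mk str ⟶ W := gT ≫ 𝒳.p.map τ ≫ eqToHom ((x.w_obj (ov w)).trans (ov_base w))
  let jT : x.obj (ov (g' ≫ w)) ⟶ x.obj (ov w) := x.map (ovHom g' rfl)
  have hψb : ∀ σ : z ⟶ x.obj (ov w), 𝒳.p.map σ = 𝒳.p.map τ →
      eqToHom ((pull_base z rfl gT).trans ((x.w_obj (ov (g' ≫ w))).trans (ov_base _)).symm) ≫ 𝒳.p.map jT =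
        𝒳.p.map (ψ ≫ σ) := fun σ hσ => by
    simp [jT, ψ, g', map_w, hσ, ov_p_map, zT]
  obtain ⟨a₁, h₁, h₁v⟩ : ∃ a₁ : zT ⟶ x.obj (ov (g' ≫ w)), a₁ ≫ jT = ψ ≫ τ ∧ 𝒳.p.map a₁ = _ :=
    ⟨facMap jT (ψ ≫ τ) _ (hψb τ rfl), facMap_comp _ _ _ _, map_facMap _ _ _ _⟩
  obtain ⟨a₂, h₂, h₂v⟩ : ∃ a₂ : zT ⟶ x.obj (ov (g' ≫ w)), a₂ ≫ jT = ψ ≫ τ' ∧ 𝒳.p.map a₂ = _ :=
    ⟨facMap jT (ψ ≫ τ') _ (hψb τ' hb.symm), facMap_comp _ _ _ _, map_facMap _ _ _ _⟩
  haveI : IsIso a₁ := isIso_of_vert a₁ h₁v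
  have ha : inv a₁ ≫ a₂ = 𝟙 _ := by
    refine auto_eq_id (A := R) hx I str hI (g' ≫ w) _ (by simp [h₁v, h₂v]) ?_
    let c₀ : CommRingCat.of (K ⧸ J) ⟶ CommRingCat.of (R ⧸ I) :=
      CommRingCat.ofHom (Ideal.quotientMap I κ.hom Ideal.le_comap_map)
    let jth : x.obj (ov (thick I str ≫ g' ≫ w)) ⟶ x.obj (ov (g' ≫ w)) := x.map (ovHom (thick I str) rfl)
    have hm : 𝒳.p.map (jth ≫ inv a₁ ≫ ψ) =
        eqToHom ((x.w_obj _).trans (ov_base _)) ≫ thick I str ≫ gT := by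
      simp [jth, ψ, map_w, h₁v, ov_p_map, zT]
    have := h _ (jth ≫ inv a₁ ≫ ψ)
      ((eqToHom ((x.w_obj (ov (thick I str ≫ g' ≫ w))).trans (ov_base _))).left ≫ Spec.map c₀) (by
        rw [hm]
        refine Eq.trans ?_ (Category.assoc _ _ _).symm
        rw [← Spec.map_comp]
        have hc : CommRingCat.ofHom (Ideal.Quotient.mk J) ≫ c₀ = κ ≫ CommRingCat.ofHom (Ideal.Quotient.mk I) := rfl
        rw [hc, Spec.map_comp, hκ]
        simp only [Over.comp_left, Category.assoc]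
        rfl)
    refine hom_ext jT (by simp [h₁v, h₂v]) ?_
    simp only [Category.assoc, h₂]
    refine (Eq.trans ?_ (this.symm.trans ?_))
    · simp [jth]
    · have e1 : inv a₁ ≫ ψ ≫ τ = jT := (congrArg (inv a₁ ≫ ·) h₁.symm).trans (IsIso.inv_hom_id_assoc a₁ jT)
      exact (Category.assoc _ _ _).trans ((congrArg (jth ≫ ·) ((Category.assoc _ _ _).trans e1)))
  have hT : ψ ≫ τ = ψ ≫ τ' := by
    rw [← h₁, ← h₂, ← Category.comp_id a₁, ← ha, IsIso.hom_inv_id_assoc]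
  have hr : Set.range (𝒳.p.map φ).left ⊆ Set.range hV.fromSpec := by
    rw [hV.range_fromSpec]
    rintro _ ⟨a, rfl⟩
    exact hφ a
  let l : 𝒳.p.obj y ⟶ Over.mk str := Over.homMk (IsOpenImmersion.lift hV.fromSpec (𝒳.p.map φ).left hr) (by
    change _ ≫ hV.fromSpec ≫ _ = _
    rw [IsOpenImmersion.lift_fac_assoc]
    exact Over.w (𝒳.p.map φ))
  have hl : l ≫ gT = 𝒳.p.map φ := Over.OverMorphism.ext (IsOpenImmersion.lift_fac _ _ _)
  have hf := facMap_comp ψ φ (l ≫ eqToHom (pull_base z rfl gT).symm) (by simp [ψ, hl, zT])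
  rw [← hf]
  simp only [Category.assoc]
  exact congrArg (_ ≫ ·) hT

end Groth.Agent.IsoSmLib
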