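import Groth.Agent.IsoSmLib.Core
import Groth.Agent.IsoSmLib.Rigid
import Groth.Agent.IsoSmLib.KillAuto
/-!
Vertical infinitesimal deformations of points are trivial for the partner of an etale morphism.
-/

set_option autoImplicit false
set_option backward.isDefEq.respectTransparency false
set_option backward.isDefEq.respectTransparency.types false
set_option linter.unusedSectionVars false

universe u

open CategoryTheory CategoryTheory.Limits AlgebraicGeometry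

namespace Groth.Agent.IsoSmLib

open _root_.AlgSp Groth.Agent.ASt

variable {S : Scheme.{u}}

theorem cl_pull_obj {𝒳 : AlgSt.Cat S} [FibCat.IsFibGrpd 𝒳.p] {U W T : Over S} (x : FibCat.overCat U ⥤ᵇ 𝒳)
    (w : W ⟶ U) (p : T ⟶ 𝒳.p.obj (x.obj (ov w))) :
    cl (pull (x.obj (ov w)) rfl p) (pull_base (x.obj (ov w)) rfl p) =
      clAt x ((p ≫ eqToHom ((x.w_obj (ov w)).trans (ov_base w))) ≫ w) :=
  cl_eq_iff.2 ⟨facMap (x.map (ovHom (p ≫ eqToHom ((x.w_obj (ov w)).trans (ov_base w))) rfl))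
    (pullHom (x.obj (ov w)) rfl p) (eqToHom _) (by simp [map_w, ov_p_map]), map_facMap _ _ _ _⟩

section test

variable {A : Type u} [CommRing A] (I : Ideal A) (str : Spec (CommRingCat.of A) ⟶ S) (σ : A ⧸ I →+* A)
  (hstr : Spec.map (CommRingCat.ofHom σ) ≫ Spec.map (CommRingCat.ofHom (Ideal.Quotient.mk I)) ≫ str = str)

/-- The retraction onto the closed part. -/
noncomputable abbrev retr : bigPt str ⟶ smallPt I str := Over.homMk (Spec.map (CommRingCat.ofHom σ)) hstr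

theorem thick_retr (hσ : (Ideal.Quotient.mk I).comp σ = RingHom.id _) :
    thick I str ≫ retr I str σ hstr = 𝟙 _ := by
  apply Over.OverMorphism.ext
  change Spec.map _ ≫ Spec.map _ = _
  rw [← Spec.map_comp, ← CommRingCat.ofHom_comp, hσ, CommRingCat.ofHom_id, Spec.map_id]
  rfl

variable (hσ : (Ideal.Quotient.mk I).comp σ = RingHom.id _) (hI : I ^ 2 = ⊥)
variable {𝒳 𝒴 : AlgSt.Cat S} [h𝒳 : FibCat.IsFibGrpd 𝒳.p] [h𝒴 : FibCat.IsFibGrpd 𝒴.p]
variable {U : Over S} {x : FibCat.overCat U ⥤ᵇ 𝒳} {y : FibCat.overCat U ⥤ᵇ 𝒴}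

include hσ in
theorem fix_closed {z : 𝒴.obj} {w : bigPt str ⟶ U} {a : y.obj (ov w) ⟶ y.obj (ov w)}
    (ha : y.map (ovHom (thick I str) (rfl : _ = thick I str ≫ w)) ≫ a = y.map (ovHom (thick I str) rfl))
    (φ : z ⟶ y.obj (ov w)) (c : 𝒴.p.obj z ⟶ smallPt I str)
    (hc : 𝒴.p.map φ ≫ eqToHom ((y.w_obj (ov w)).trans (ov_base w)) = c ≫ thick I str) : φ ≫ a = φ := by
  let j : y.obj (ov (thick I str ≫ w)) ⟶ y.obj (ov w) := y.map (ovHom (thick I str) rfl)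
  have h := facMap_comp j φ (c ≫ eqToHom ((y.w_obj (ov (thick I str ≫ w))).trans (ov_base _)).symm)
    (by simp [j, map_w, ov_p_map]; rw [← reassoc_of% hc]; simp)
  rw [← h, Category.assoc, ha]

include hσ hI in
/-- A deformation with constant class is constant. -/
theorem eq_const (hx : AlgSt.RepByAlgSpWith (LocP (@LocallyOfFiniteType ⊓ @FormallyUnramified)) x) {w : bigPt str ⟶ U}
    (h : clAt x (retr I str σ hstr ≫ thick I str ≫ w) = clAt x w) : retr I str σ hstr ≫ thick I str ≫ w = w := by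
  let r := retr I str σ hstr
  let g₀ := thick I str ≫ w
  have htr := thick_retr I str σ hstr hσ
  have hg₀ : thick I str ≫ r ≫ g₀ = g₀ := by rw [reassoc_of% htr]
  obtain ⟨β, hβ⟩ := clAt_eq_iff.1 h
  let jr : x.obj (ov g₀) ⟶ x.obj (ov (r ≫ g₀)) := x.map (ovHom (thick I str) hg₀)
  let jw : x.obj (ov g₀) ⟶ x.obj (ov w) := x.map (ovHom (thick I str) rfl)
  let mr : x.obj (ov (r ≫ g₀)) ⟶ x.obj (ov g₀) := x.map (ovHom r rfl)
  obtain ⟨γ₀, hγ₀, hγ₀v⟩ : ∃ γ₀ : x.obj (ov g₀) ⟶ x.obj (ov g₀), γ₀ ≫ jw = jr ≫ β ∧ 𝒳.p.map γ₀ = 𝟙 _ :=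
    ⟨facMap jw (jr ≫ β) (𝟙 _) (by simp [jw, jr, map_w, hβ, ov_p_map]), facMap_comp _ _ _ _, map_facMap _ _ _ _⟩
  haveI : IsIso γ₀ := isIso_of_vert γ₀ (e := rfl) hγ₀v
  obtain ⟨δ, hδ, hδv⟩ : ∃ δ : x.obj (ov (r ≫ g₀)) ⟶ x.obj (ov (r ≫ g₀)), δ ≫ mr = mr ≫ γ₀ ∧ 𝒳.p.map δ = 𝟙 _ :=
    ⟨facMap mr (mr ≫ γ₀) (𝟙 _) (by simp [mr, hγ₀v]), facMap_comp _ _ _ _, map_facMap _ _ _ _⟩
  haveI : IsIso δ := isIso_of_vert δ (e := rfl) hδv
  have hjm : jr ≫ mr = 𝟙 _ := by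
    rw [← Functor.map_comp, show ovHom (thick I str) hg₀ ≫ ovHom r rfl = 𝟙 (ov g₀) from
      Over.OverMorphism.ext htr, CategoryTheory.Functor.map_id]
  have hjδ : jr ≫ δ = γ₀ ≫ jr := by
    refine hom_ext mr (by simp [hδv, hγ₀v]) ?_
    rw [Category.assoc, hδ, reassoc_of% hjm, Category.assoc, hjm, Category.comp_id]
  have hjβ : jr ≫ inv δ ≫ β = jw := by
    have : jr ≫ inv δ = inv γ₀ ≫ jr := by
      rw [IsIso.comp_inv_eq, Category.assoc, hjδ, IsIso.inv_hom_id_assoc]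
    rw [← Category.assoc, this, Category.assoc, ← hγ₀, IsIso.inv_hom_id_assoc]
  let Q₀ : Pt x x g₀ := { x := ov g₀, hx := rfl, φ := 𝟙 _, hφ := by simp }
  let z : FibCat.overCat U ⥤ᵇ 𝒳 := x
  let P : Pt x z (r ≫ g₀) := { x := ov w, hx := rfl, φ := inv δ ≫ β, hφ := by simp [z, hδv, hβ] }
  let P' : Pt x z (r ≫ g₀) := { x := ov (r ≫ g₀), hx := rfl, φ := 𝟙 _, hφ := by simp [z] }
  have hel := el_unique I str hx hI (P₀ := Q₀) (P₀' := Q₀) (P := P) (P' := P') (e := hg₀)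
    ⟨ovHom (thick I str) rfl, by simp [Q₀, P, ov_p_map], by simpa [Q₀, P, z] using hjβ⟩
    ⟨ovHom (thick I str) hg₀, by simp [Q₀, P', ov_p_map], by simp [Q₀, P', z]⟩ rfl
  obtain ⟨m, hm, -⟩ := fpEl_eq_iff.1 hel
  have := Over.w m
  rw [show m.left = 𝟙 _ from (hm.trans (eqToHom_refl _ _)).trans rfl] at this
  exact (Category.id_comp _).symm.trans this

include hσ hI in
/-- An automorphism of a deformation that dies on the closed part is trivial. -/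
theorem auto_trivial (hX : Stk.IsStack (AlgSp.J S) 𝒳) (hY : Stk.IsStack (AlgSp.J S) 𝒴)
    (hd : AlgSt.RepByAlgSpWith (AlgSp.IsSeparatedMor ⊓ AlgSp.IsQuasiCompactMor)
      (FibCat.diag (FibCat.toSelf 𝒴))) (φ : IsoNat.FIso 𝒳 𝒴)
    (hxy : φ.toEquiv U (IsoNat.objCls x) = IsoNat.objCls y) (hx : AlgSt.RepByAlgSpWith (LocP (@LocallyOfFiniteType ⊓ @FormallyUnramified)) x)
    {w : bigPt str ⟶ U} (hw : retr I str σ hstr ≫ thick I str ≫ w = w)
    (a : y.obj (ov w) ⟶ y.obj (ov w)) (hav : 𝒴.p.map a = 𝟙 _)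
    (ha : y.map (ovHom (thick I str) (rfl : _ = thick I str ≫ w)) ≫ a = y.map (ovHom (thick I str) rfl)) :
    a = 𝟙 _ := by
  let r := retr I str σ hstr
  let hbX : 𝒳.p.obj (x.obj (ov w)) = bigPt str := (x.w_obj (ov w)).trans (ov_base w)
  let hbY : 𝒴.p.obj (y.obj (ov w)) = bigPt str := (y.w_obj (ov w)).trans (ov_base w)
  let e : x.obj (ov w) ⟶ x.obj (ov w) := x.map (ovHom (r ≫ thick I str) (by rw [Category.assoc, hw]))
  have htr := thick_retr I str σ hstr hσ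
  have hX' : Trivializes (x.obj (ov w)) (thick I str ≫ eqToHom hbX.symm) (eqToHom hbX ≫ r) := by
    refine trivializes_of_rigid hX _ _ e (by simp [e, map_w, ov_p_map]) (fun z ψ c hc => ?_) fun z τ τ' hb h => ?_
    · refine fix_closed I str σ hσ (y := x) ?_ ψ c (by rw [hc]; simp)
      rw [← Functor.map_comp]
      congr 1
      exact Over.OverMorphism.ext (by simp [r, reassoc_of% htr])
    · refine rigid hX hx w hb I hI (𝒳.p.map τ ≫ eqToHom hbX).left fun z' ψ c hc => ?_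
      have hc' : c ≫ (smallPt I str).hom = (𝒳.p.obj z').hom := by
        change c ≫ Spec.map _ ≫ str = _
        rw [← reassoc_of% hc]
        exact (congrArg (_ ≫ ·) (Over.w (𝒳.p.map τ ≫ eqToHom hbX))).trans (Over.w (𝒳.p.map ψ))
      refine h z' ψ (Over.homMk c hc') ((cancel_mono (eqToHom hbX)).1 (Over.OverMorphism.ext ?_))
      simpa using hc
  have hY' : Trivializes (y.obj (ov w)) (thick I str ≫ eqToHom hbY.symm) (eqToHom hbY ≫ r) := by
    intro T T' π _ _ _ p₀ T₀ ι _ ρ ρ₀ h₀ hρ hfix hfac c' hcT hc0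
    let pX : T ⟶ 𝒳.p.obj (x.obj (ov w)) := (p₀ ≫ eqToHom hbY) ≫ eqToHom hbX.symm
    obtain ⟨d, rfl⟩ := (φ.toEquiv T).surjective c'
    have hφ : φ.toEquiv T (cl (pull (x.obj (ov w)) rfl pX) (pull_base (x.obj (ov w)) rfl pX)) =
        cl (pull (y.obj (ov w)) rfl p₀) (pull_base (y.obj (ov w)) rfl p₀) := by
      rw [cl_pull_obj, cl_pull_obj, toEquiv_clAt φ hxy]
      simp [pX]
    rw [← hφ] at hcT hc0 ⊢
    refine congrArg (φ.toEquiv T) (hX' T T' π pX T₀ ι ρ ρ₀ h₀ ?_ (fun V l c hl => hfix V l c ?_)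
      (fun V t c ht => hfac V t c ?_) d ((φ.toEquiv T').injective ?_) ((φ.toEquiv T₀).injective ?_))
    · simpa [pX] using congrArg (fun k => k ≫ eqToHom hbY ≫ eqToHom hbX.symm) hρ
    · simpa [pX] using congrArg (fun k => k ≫ eqToHom hbX ≫ eqToHom hbY.symm) hl
    · simpa [pX] using congrArg (fun k => k ≫ eqToHom hbX ≫ eqToHom hbY.symm) ht
    · rw [toEquiv_clMap, toEquiv_clMap]
      exact hcT
    · rw [toEquiv_clMap, toEquiv_clMap]
      exact hc0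
  haveI : IsIso a := isIso_of_vert a (e := rfl) hav
  exact eq_id_of_retract (A := CommRingCat.of A) hY hd I σ hσ ((Over.forget S).mapIso (eqToIso hbY)) (asIso a) hav
    (Iso.refl _) (thick I str ≫ eqToHom hbY.symm) (by simp) (eqToHom hbY ≫ r) (by simp [r])
    (fun z ψ c hc => fix_closed I str σ hσ ha ψ c (by rw [hc]; simp)) hY'

include hσ hI in
/-- Vertical deformations of a point are constant. -/
theorem el_const (hX : Stk.IsStack (AlgSp.J S) 𝒳) (hY : Stk.IsStack (AlgSp.J S) 𝒴)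
    (hd : AlgSt.RepByAlgSpWith (AlgSp.IsSeparatedMor ⊓ AlgSp.IsQuasiCompactMor)
      (FibCat.diag (FibCat.toSelf 𝒴))) (φ : IsoNat.FIso 𝒳 𝒴)
    (hxy : φ.toEquiv U (IsoNat.objCls x) = IsoNat.objCls y) (hx : AlgSt.RepByAlgSpWith (LocP (@LocallyOfFiniteType ⊓ @FormallyUnramified)) x)
    {Z : Over S} {z : FibCat.overCat Z ⥤ᵇ 𝒴} {g₀ : smallPt I str ⟶ Z}
    (c : ClType (FibCat.fp z y) (bigPt str)) (hc : fpHom c = retr I str σ hstr ≫ g₀) :
    c = ASt.clMap (retr I str σ hstr) (ASt.clMap (thick I str) c) := by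
  obtain ⟨g, ⟨o, ho, φ', hφ'⟩, rfl⟩ := Pt.exists_el c
  rw [Pt.fpHom_el] at hc
  subst hc
  let r := retr I str σ hstr
  have htr := thick_retr I str σ hstr hσ
  obtain ⟨w, m, hm⟩ := exists_vert_ov o ho
  let g := r ≫ g₀
  have hg : thick I str ≫ g = g₀ := by simp [g, r, reassoc_of% htr]
  let β : z.obj (ov g) ⟶ y.obj (ov w) := φ' ≫ y.map m
  have hβ : 𝒴.p.map β = eqToHom (((z.w_obj (ov g)).trans (ov_base g)).trans ((y.w_obj (ov w)).trans (ov_base w)).symm) := by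
    simp [β, map_w, hφ', ov_p_map, hm, g, r]
  let P : Pt y z g := ⟨ov w, rfl, β, hβ⟩
  have hPel : (⟨o, ho, φ', hφ'⟩ : Pt y z g).el = P.el := fpEl_eq_iff.2 ⟨m, by simp [P, ov_p_map, hm], rfl⟩
  rw [hPel]
  obtain ⟨β₀, hβ₀, hβ₀v⟩ : ∃ β₀ : z.obj (ov g₀) ⟶ y.obj (ov (thick I str ≫ w)),
      β₀ ≫ y.map (ovHom (thick I str) rfl) = z.map (ovHom (thick I str) hg) ≫ β ∧
      𝒴.p.map β₀ = eqToHom (((z.w_obj (ov g₀)).trans (ov_base _)).trans ((y.w_obj _).trans (ov_base _)).symm) := by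
    refine ⟨facMap (y.map (ovHom (thick I str) (rfl : _ = thick I str ≫ w))) (z.map (ovHom (thick I str) hg) ≫ β)
      (eqToHom _) ?_, facMap_comp _ _ _ _, map_facMap _ _ _ _⟩
    simp [map_w, hβ, ov_p_map]
  let P₀ : Pt y z g₀ := ⟨ov (thick I str ≫ w), rfl, β₀, hβ₀v⟩
  have hP₀ : ASt.clMap (thick I str) P.el = P₀.el :=
    Pt.Res.clMap (e := hg) ⟨ovHom (thick I str) rfl, by simp [P₀, P, ov_p_map], hβ₀.symm⟩
  have hcl : clAt z g = clAt y w := clAt_eq_iff.2 ⟨β, hβ⟩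
  have hcl₀ : clAt z g₀ = clAt y (thick I str ≫ w) := clAt_eq_iff.2 ⟨β₀, hβ₀v⟩
  have hw : r ≫ thick I str ≫ w = w := by
    refine eq_const I str σ hstr hσ hI hx ((φ.toEquiv _).injective ?_)
    rw [toEquiv_clAt φ hxy, toEquiv_clAt φ hxy, ← hcl, ← clMap_clAt y r, ← hcl₀, clMap_clAt]
  obtain ⟨β₁, hβ₁, hβ₁v⟩ : ∃ β₁ : z.obj (ov g) ⟶ y.obj (ov w),
      β₁ ≫ y.map (ovHom r hw) = z.map (ovHom r rfl) ≫ β₀ ∧
      𝒴.p.map β₁ = eqToHom (((z.w_obj (ov g)).trans (ov_base g)).trans ((y.w_obj (ov w)).trans (ov_base w)).symm) := by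
    refine ⟨facMap (y.map (ovHom r hw)) (z.map (ovHom r rfl) ≫ β₀) (eqToHom _) ?_,
      facMap_comp _ _ _ _, map_facMap _ _ _ _⟩
    simp [map_w, hβ₀v, ov_p_map, g, r]
  haveI : IsIso β := isIso_of_vert β hβ
  have hres : z.map (ovHom (thick I str) hg) ≫ β₁ = z.map (ovHom (thick I str) hg) ≫ β := by
    rw [← hβ₀]
    refine hom_ext (y.map (ovHom r hw)) (by simp [map_w, hβ₁v, hβ₀v, ov_p_map]) ?_
    have e1 : ovHom (thick I str) hg ≫ ovHom r (rfl : r ≫ g₀ = g) = 𝟙 (ov g₀) :=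
      Over.OverMorphism.ext htr
    have e2 : ovHom (thick I str) (rfl : _ = thick I str ≫ w) ≫ ovHom r hw = 𝟙 (ov (thick I str ≫ w)) :=
      Over.OverMorphism.ext htr
    rw [Category.assoc, hβ₁, ← Category.assoc, ← Functor.map_comp, e1, Category.assoc, ← Functor.map_comp, e2]
    simp
  have hγ : inv β ≫ β₁ = 𝟙 _ := by
    refine auto_trivial I str σ hstr hσ hI hX hY hd φ hxy hx hw _ (by simp [hβ, hβ₁v]) ?_
    haveI : IsIso β₀ := isIso_of_vert β₀ hβ₀v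
    rw [← cancel_epi β₀, reassoc_of% hβ₀, IsIso.hom_inv_id_assoc, hres, hβ₀]
  rw [hP₀]
  refine (Pt.Res.clMap (P' := P) (P := P₀) (e := rfl) ⟨ovHom r hw, by simp [P₀, P, ov_p_map, r], ?_⟩).symm
  show z.map (ovHom r rfl) ≫ β₀ = β ≫ y.map (ovHom r hw)
  rw [← hβ₁, show β₁ = β from (by rw [← Category.comp_id β, ← hγ, IsIso.hom_inv_id_assoc])]

end test

end Groth.Agent.IsoSmLib
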