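import Groth.Agent.IsoSmLib.Transfer
import Groth.Agent.IsoSmLib.EtaleKey
import Groth.Agent.S10627
import Mathlib.Algebra.TrivSqZeroExt.Basic
import Mathlib.AlgebraicGeometry.Morphisms.FormallyUnramified
import Mathlib.AlgebraicGeometry.Morphisms.Etale
/-!
Being etale is detected by presheaves of isomorphism classes.
-/

set_option autoImplicit false
set_option backward.isDefEq.respectTransparency false
set_option backward.isDefEq.respectTransparency.types false
set_option linter.unusedSectionVars false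

universe u

open CategoryTheory CategoryTheory.Limits AlgebraicGeometry Opposite

namespace Groth.Agent.IsoSmLib

/-- Formal unramifiedness is tested on retracted square zero extensions. -/
theorem formallyUnramified_of_retract {R B : Type u} [CommRing R] [CommRing B] [Algebra R B]
    (h : ∀ (A : Type u) [CommRing A] (I : Ideal A) (σ : A ⧸ I →+* A), I ^ 2 = ⊥ →
      (Ideal.Quotient.mk I).comp σ = RingHom.id _ → ∀ f : B →+* A,
      (σ.comp ((Ideal.Quotient.mk I).comp f)).comp (algebraMap R B) = f.comp (algebraMap R B) →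
      f = σ.comp ((Ideal.Quotient.mk I).comp f)) : Algebra.FormallyUnramified R B := by
  letI : Module Bᵐᵒᵖ Ω[B⁄R] := Module.compHom _ ((RingHom.id B).fromOpposite fun _ _ => mul_comm _ _)
  haveI : IsCentralScalar B Ω[B⁄R] := ⟨fun _ _ => rfl⟩
  haveI : SMulCommClass B Bᵐᵒᵖ Ω[B⁄R] := ⟨fun a b m => smul_comm a b.unop m⟩
  let D := KaehlerDifferential.D R B
  let f : B →+* TrivSqZeroExt B Ω[B⁄R] :=
    { toFun := fun b => TrivSqZeroExt.inl b + TrivSqZeroExt.inr (D b)
      map_one' := by ext <;> simp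
      map_zero' := by ext <;> simp
      map_add' := fun a b => by ext <;> simp [map_add]
      map_mul' := fun a b => by
        ext
        · simp
        · simp [D, Derivation.leibniz] }
  let π : TrivSqZeroExt B Ω[B⁄R] →+* B :=
  { toFun := TrivSqZeroExt.fst
    map_one' := rfl
    map_mul' := fun _ _ => rfl
    map_zero' := rfl
    map_add' := fun _ _ => rfl }
  let I := RingHom.ker π
  have hI : I ^ 2 = ⊥ := by
    rw [pow_two, eq_bot_iff, Ideal.mul_le]
    intro a ha b hb
    have ha' : a.fst = 0 := ha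
    have hb' : b.fst = 0 := hb
    rw [Ideal.mem_bot]
    ext <;> simp [ha', hb']
  let πq : TrivSqZeroExt B Ω[B⁄R] ⧸ I →+* B := Ideal.Quotient.lift I π fun a ha => ha
  let σ : TrivSqZeroExt B Ω[B⁄R] ⧸ I →+* TrivSqZeroExt B Ω[B⁄R] := (TrivSqZeroExt.inlHom B Ω[B⁄R]).comp πq
  have hσ : (Ideal.Quotient.mk I).comp σ = RingHom.id _ := by
    refine Ideal.Quotient.ringHom_ext (RingHom.ext fun a => ?_)
    refine Ideal.Quotient.eq.2 ?_
    show π (TrivSqZeroExt.inlHom B Ω[B⁄R] (π a) - a) = 0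
    simp [π]
  have hf := h (TrivSqZeroExt B Ω[B⁄R]) I σ hI hσ f (by ext r <;> simp [σ, πq, π, f, D])
  have hD : ∀ b, D b = 0 := fun b => by
    have := congrArg TrivSqZeroExt.snd (RingHom.congr_fun hf b)
    simpa [σ, πq, π, f] using this
  constructor
  have := KaehlerDifferential.span_range_derivation R B
  rw [show Set.range (KaehlerDifferential.D R B) = {0} from Set.ext fun t => ⟨fun ⟨b, hb⟩ => hb ▸ hD b,
    fun ht => ⟨0, by rw [Set.mem_singleton_iff.1 ht, map_zero]⟩⟩, Submodule.span_singleton_eq_bot.2 rfl] at this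
  exact (Submodule.subsingleton_iff B).1 (subsingleton_iff_bot_eq_top.1 this)

/-- Formal unramifiedness of a morphism of schemes is tested on retracted square zero extensions. -/
theorem scheme_formallyUnramified_of_retract {X Y : Scheme.{u}} (h : X ⟶ Y)
    (ht : ∀ (A : Type u) [CommRing A] (I : Ideal A) (σ : A ⧸ I →+* A), I ^ 2 = ⊥ →
      (Ideal.Quotient.mk I).comp σ = RingHom.id _ → ∀ l : Spec (CommRingCat.of A) ⟶ X,
      Spec.map (CommRingCat.ofHom σ) ≫ Spec.map (CommRingCat.ofHom (Ideal.Quotient.mk I)) ≫ l ≫ h = l ≫ h →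
      l = Spec.map (CommRingCat.ofHom σ) ≫ Spec.map (CommRingCat.ofHom (Ideal.Quotient.mk I)) ≫ l) :
    FormallyUnramified h := by
  refine (HasRingHomProperty.iff_appLE (P := @FormallyUnramified)).2 fun U V e => ?_
  algebraize [(h.appLE U V e).hom]
  refine formallyUnramified_of_retract fun A _ I σ hI hσ f hf => ?_
  let l := Spec.map (CommRingCat.ofHom f) ≫ V.2.fromSpec
  have hl := ht A I σ hI hσ l (by
    simp only [l, Category.assoc]
    rw [← U.2.SpecMap_appLE_fromSpec h V.2 e]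
    simp only [← Spec.map_comp_assoc]
    congr 2
    exact CommRingCat.hom_ext (by
      rw [RingHom.comp_assoc] at hf
      exact hf))
  simp only [l] at hl
  simp only [← Spec.map_comp_assoc] at hl
  exact congrArg CommRingCat.Hom.hom (Spec.map_injective ((cancel_mono _).1 hl))

open _root_.AlgSp Groth.Agent.ASt Groth.Agent.ASp

variable {S : Scheme.{u}} {𝒳 𝒴 : AlgSt.Cat S} [h𝒳 : FibCat.IsFibGrpd 𝒳.p] [h𝒴 : FibCat.IsFibGrpd 𝒴.p]

/-- The chart of a base change of the partner of an unramified morphism is formally unramified. -/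
theorem chart_formallyUnramified (hX : Stk.IsStack (AlgSp.J S) 𝒳) (hYst : Stk.IsStack (AlgSp.J S) 𝒴)
    (hd : AlgSt.RepByAlgSpWith (AlgSp.IsSeparatedMor ⊓ AlgSp.IsQuasiCompactMor)
      (FibCat.diag (FibCat.toSelf 𝒴)))
    (φ : IsoNat.FIso 𝒳 𝒴) {U : Over S} {x : FibCat.overCat U ⥤ᵇ 𝒳} {y : FibCat.overCat U ⥤ᵇ 𝒴}
    (hxy : φ.toEquiv U (IsoNat.objCls x) = IsoNat.objCls y)
    (hx : AlgSt.RepByAlgSpWith (LocP (@LocallyOfFiniteType ⊓ @FormallyUnramified)) x)
    {Z : Over S} (z : FibCat.overCat Z ⥤ᵇ 𝒴) (hs : Presheaf.IsSheaf (AlgSp.J S) (fib z y))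
    (hA : IsAlgSpace (⟨fib z y, hs⟩ : Sp S)) {C : Over S} (p : (yon S).obj C ⟶ (⟨fib z y, hs⟩ : Sp S))
    (hpe : RepWith @Etale p) (h : C ⟶ Z) (hcomp : p ≫ ObjectProperty.homMk (fibπ z y) = (yon S).map h) :
    FormallyUnramified h.left := by
  refine scheme_formallyUnramified_of_retract h.left fun A _ I σ hI2 hσ l hl => ?_
  let str := l ≫ C.hom
  have hstr : Spec.map (CommRingCat.ofHom σ) ≫ Spec.map (CommRingCat.ofHom (Ideal.Quotient.mk I)) ≫ str = str := by
    simp only [str, ← Over.w h]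
    rw [reassoc_of% hl]
  let lO : bigPt str ⟶ C := Over.homMk l rfl
  let r := retr I str σ hstr
  have hh : r ≫ thick I str ≫ lO ≫ h = lO ≫ h := Over.OverMorphism.ext hl
  have hel := el_const I str σ hstr hσ hI2 hX hYst hd φ hxy hx (g₀ := thick I str ≫ lO ≫ h)
    (secOf ((yon S).map lO ≫ p)) (by
      have h1 := congrArg secOf (show ((yon S).map lO ≫ p) ≫ ObjectProperty.homMk (fibπ z y) =
        (yon S).map (lO ≫ h) by rw [Category.assoc, hcomp, ← Functor.map_comp])
      rw [secOf_comp] at h1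
      change (fibπ z y).app (op _) (secOf ((yon S).map lO ≫ p)) = _ at h1
      rw [fibπ_app] at h1
      refine Eq.trans ?_ hh.symm
      exact (congrArg ULift.down h1).trans (show (secOf ((yon S).map (lO ≫ h))).down = lO ≫ h from Category.id_comp (lO ≫ h)))
  have hp2 : (yon S).map lO ≫ p = (yon S).map (r ≫ thick I str ≫ lO) ≫ p := by
    refine secOf_injective (hel.trans ?_)
    simp only [Functor.map_comp, Category.assoc, secOf_map]
    rfl
  have hpe' : IsEtaleMor p := (isEtaleMor_iff_locP hA).2 (locP_of_repWith hpe)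
  have hu := ((S10627.result (X := ⟨(yon S).obj C, IsAlgSpace.yon_obj C⟩) (Y := ⟨_, hA⟩)
    (ObjectProperty.homMk p)).1 hpe').2
    { A := A, I := I, sq_zero := hI2, str := str, top := (yon S).map (thick I str ≫ lO),
      bot := (yon S).map lO ≫ p, comm := by rw [Functor.map_comp, Category.assoc]; rfl }
  have := hu.unique (y₁ := (yon S).map lO) (y₂ := (yon S).map (r ≫ thick I str ≫ lO))
    ⟨((yon S).map_comp _ _).symm, rfl⟩
    ⟨((yon S).map_comp _ _).symm.trans (congrArg (yon S).map (show thick I str ≫ r ≫ thick I str ≫ lO = thick I str ≫ lO by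
      rw [← Category.assoc, thick_retr I str σ hstr hσ, Category.id_comp])), hp2.symm⟩
  exact congrArg CommaMorphism.left ((yon S).map_injective this)

theorem repByAlgSpWith_etale_of_fIso (hX : Stk.IsStack (AlgSp.J S) 𝒳)
    (hY : AlgSt.IsAlgStack Scheme.fppfPrecoverage 𝒴) (hYst : Stk.IsStack (AlgSp.J S) 𝒴)
    (hd : AlgSt.RepByAlgSpWith (AlgSp.IsSeparatedMor ⊓ AlgSp.IsQuasiCompactMor)
      (FibCat.diag (FibCat.toSelf 𝒴)))
    (hI : AlgSt.RepByAlgSpWith (LocP @LocallyOfFinitePresentation) (FibCat.inertiaToBase (FibCat.toSelf 𝒴)))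
    (φ : IsoNat.FIso 𝒳 𝒴) {U : Over S} {x : FibCat.overCat U ⥤ᵇ 𝒳} {y : FibCat.overCat U ⥤ᵇ 𝒴}
    (hxy : φ.toEquiv U (IsoNat.objCls x) = IsoNat.objCls y) (hx : AlgSt.RepByAlgSpWith IsEtaleMor x) :
    AlgSt.RepByAlgSpWith IsEtaleMor y := by
  have hxs : AlgSt.RepByAlgSpWith (LocP @Smooth) x := repByAlgSpWith_mono (fun _ _ f _ hY' hf =>
    fun _ _ a b k ha hb e => haveI : Etale k.left := (isEtaleMor_iff_locP hY').1 hf a b k ha hb e; inferInstance) hx
  have hy := repByAlgSpWith_smooth_of_fIso hY (repByAlgSp1_of_with hd) hI φ hxy hxs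
  rw [repByAlgSpWith_iff]
  refine ⟨faithful_of_repByAlgSp1 (repByAlgSp1_of_with hy), fun Z z => ?_⟩
  obtain ⟨hs, hA, C, p, E, h, hpe, hps, hcomp, -, -, -⟩ := exists_chart_of_fib (repByAlgSp1_of_with hy) z
  obtain ⟨_, _, hπ⟩ := (repByAlgSpWith_iff.1 hy).2 Z z
  refine ⟨hs, hA, ?_⟩
  haveI hsm : Smooth h.left := prop_chart hpe hcomp hπ
  haveI : FormallyUnramified h.left := chart_formallyUnramified hX hYst hd φ hxy (repByAlgSpWith_mono
    (fun _ _ f _ hY' hf => fun _ _ a b k ha hb e =>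
      haveI : Etale k.left := (isEtaleMor_iff_locP hY').1 hf a b k ha hb e
      ⟨inferInstance, inferInstance⟩) hx) z hs hA p hpe h hcomp
  haveI : Etale h.left := Etale.of_formallyUnramified_of_flat h.left
  exact (isEtaleMor_iff_locP (IsAlgSpace.yon_obj Z)).2
    (locP_of_chart hpe hps (repWith_id _ Z) (h := h) (by rw [Category.comp_id, hcomp]) ‹Etale h.left›)

end Groth.Agent.IsoSmLib
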