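import Groth.Agent.IsoNatClean.Glue
/-!
Twisted descent data whose automorphism dies on a closed part.
-/

set_option autoImplicit false
set_option backward.isDefEq.respectTransparency false
set_option backward.isDefEq.respectTransparency.types false
set_option linter.unusedSectionVars false

universe u

open CategoryTheory AlgebraicGeometry

namespace Groth.Agent.IsoSmLib

open Groth.Agent.ASt Groth.Agent.RepOne Groth.Agent.IsoNatClean

variable {S : Scheme.{u}} {𝒳 : AlgSt.Cat S} [h𝒳 : FibCat.IsFibGrpd 𝒳.p]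
variable (hst : Stk.IsStack (AlgSp.J S) 𝒳) {x : 𝒳.obj} (s : Aut x) (hs : 𝒳.p.map s.hom = 𝟙 (𝒳.p.obj x))
  {T T' : Over S} (π : T' ⟶ T) (h : ↥T'.left → ℤ) (χ : ↥T.left → ℤ)
variable (hloc : ∀ {W : Over S} (l l' : W ⟶ T'), l ≫ π = l' ≫ π → IsLocallyConstant (expo π h χ l l'))
variable (p₀ : T ⟶ 𝒳.p.obj x) [Flat π.left] [Surjective π.left] [LocallyOfFinitePresentation π.left]

include hst hs hloc in
/-- The glued object is trivial on the part where the automorphism is trivial. -/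
theorem glue_zero {T₀ : Over S} (ι : T₀ ⟶ T)
    (hs₀ : ∀ (z : 𝒳.obj) (φ : z ⟶ x) (l : 𝒳.p.obj z ⟶ T₀), l ≫ ι ≫ p₀ = 𝒳.p.map φ → φ ≫ s.hom = φ)
    (c : SCone (datum hst s hs π h χ hloc p₀)) :
    clMap ι (cl c.pt c.base) = clMap ι (cl (pull x rfl p₀) (pull_base x rfl p₀)) := by
  let D := datum hst s hs π h χ hloc p₀
  let R := (facSieve π).pullback ι
  have hR : R ∈ (AlgSp.J S) T₀ := (AlgSp.J S).pullback_stable ι (facSieve_mem π)
  let a₀ := pull c.pt c.base ι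
  let ha₀ : 𝒳.p.obj a₀ = T₀ := pull_base c.pt c.base ι
  let pa : a₀ ⟶ c.pt := pullHom c.pt c.base ι
  let b₀ := pull (pull x rfl p₀) (pull_base x rfl p₀) ι
  let hb₀ : 𝒳.p.obj b₀ = T₀ := pull_base (pull x rfl p₀) (pull_base x rfl p₀) ι
  let qb : b₀ ⟶ x := pullHom (pull x rfl p₀) (pull_base x rfl p₀) ι ≫ pullHom x rfl p₀
  let D₀ := (Stk.resSieve R 𝒳).obj (objFun a₀ ha₀)
  let up : (Stk.sieveCat R).obj → Mem π := fun t => ⟨Over.mk (t.obj.hom ≫ ι), t.property⟩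
  let χt : ∀ t : (Stk.sieveCat R).obj, D₀.obj t ⟶ D.obj (up t) := fun t =>
    facMap (c.ι (up t)) (pullHom a₀ ha₀ t.obj.hom ≫ pa)
      (eqToHom ((pull_base a₀ ha₀ t.obj.hom).trans (D.w_obj (up t)).symm)) (by
        rw [c.map_ι]
        simp [pa, up, a₀])
  have hχb : ∀ t, 𝒳.p.map (χt t ≫ IsoNatClean.dHom π p₀ (up t)) =
      eqToHom (pull_base a₀ ha₀ t.obj.hom) ≫ t.obj.hom ≫ ι ≫ p₀ := fun t => by
    rw [Functor.map_comp, map_facMap, IsoNatClean.map_dHom]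
    simp [dEps, up, D]
  let c' : SCone D₀ :=
    { pt := b₀
      base := hb₀
      ι := fun t => facMap qb (χt t ≫ IsoNatClean.dHom π p₀ (up t))
        (eqToHom (pull_base a₀ ha₀ t.obj.hom) ≫ t.obj.hom ≫ eqToHom hb₀.symm) (by
          rw [hχb]
          simp [qb, b₀])
      map_ι := fun t => map_facMap _ _ _ _
      nat := fun {t t'} m => by
        have hm : m.hom.left ≫ t'.obj.hom = t.obj.hom := Over.w m.hom
        refine hom_ext qb ?_ ?_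
        · rw [Functor.map_comp, map_facMap, map_facMap, map_w D₀ m]
          simp [reassoc_of% hm]
          exact congrArg (eqToHom _ ≫ ·) (congrArg (· ≫ eqToHom _) hm |>.trans rfl |> fun e => (Category.assoc _ _ _).symm.trans e)
        rw [Category.assoc, facMap_comp, facMap_comp]
        let m' : up t ⟶ up t' := ObjectProperty.homMk (Over.homMk m.hom.left (by
          show m.hom.left ≫ t'.obj.hom ≫ ι = t.obj.hom ≫ ι
          rw [reassoc_of% hm]))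
        have hsq : D₀.map m ≫ χt t' = χt t ≫ D.map m' := by
          refine hom_ext (c.ι (up t')) ?_ ?_
          · rw [Functor.map_comp, Functor.map_comp, map_facMap, map_facMap, map_w D₀ m, map_w D m']
            simp [m']
            rfl
          · rw [Category.assoc, facMap_comp, Category.assoc, c.nat, facMap_comp, ← Category.assoc]
            exact congrArg (· ≫ pa) ((objCone R a₀ ha₀).nat m)
        rw [← Category.assoc, hsq, Category.assoc]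
        refine (congrArg (χt t ≫ ·) (dMap_comp hst s hs π h χ hloc p₀ m')).trans ?_
        rw [tw_precomp]
        have hspec := tw_spec hst s hs π h χ hloc (χt t ≫ IsoNatClean.dHom π p₀ (up t))
          (𝒳.p.map (χt t) ≫ dLift π p₀ (up t)) (𝒳.p.map (χt t) ≫ dBase π p₀ m' ≫ dLift π p₀ (up t'))
          (by rw [Category.assoc, Category.assoc, dBase_lift π p₀ m'])
        refine IsTw.unique hst (hloc _ _ (by rw [Category.assoc, Category.assoc, dBase_lift π p₀ m'])) hspec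
          ⟨rfl, fun y φ k hk => ?_⟩
        let ψ : y ⟶ x := φ ≫ χt t ≫ IsoNatClean.dHom π p₀ (up t)
        have h1 : ψ ≫ s.hom = ψ :=
          hs₀ _ ψ (𝒳.p.map φ ≫ eqToHom (pull_base a₀ ha₀ t.obj.hom) ≫ t.obj.hom) (by
            simp only [ψ, Functor.map_comp]
            rw [← Functor.map_comp (𝒳.p) (χt t), hχb]
            simp)
        have h2 : ψ ≫ (s ^ (-1 : ℤ)).hom = ψ := by
          conv_lhs => rw [← h1]
          rw [zpow_neg_one]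
          exact (Category.assoc _ _ _).trans ((congrArg _ s.hom_inv_id).trans (Category.comp_id _))
        clear hk
        have h3 : ψ ≫ (s ^ k).hom = ψ := by
          induction k using Int.induction_on with
          | zero =>
            rw [zpow_zero]
            exact Category.comp_id _
          | succ n ih => rw [← zpow_add_hom, ← Category.assoc, ih, zpow_one, h1]
          | pred n ih => rw [sub_eq_add_neg, ← zpow_add_hom, ← Category.assoc, ih, h2]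
        refine h3.symm.trans ?_
        simp only [ψ, Category.assoc] }
  obtain ⟨k, ⟨hk, -⟩, -⟩ := (isStack_iff.1 hst R hR).1 _ (objCone R a₀ ha₀) c'
  rw [clMap_cl_pull, clMap_cl_pull]
  exact cl_eq_iff.2 ⟨k, hk⟩

include hst hs hloc in
/-- If classes trivial on the cover and on the closed part are trivial, the twisted datum glues to `x` itself: lifts are turned into morphisms to
`x` naturally, injectively, and compatibly with the twist. -/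
theorem exists_glue₀ {T₀ : Over S} (ι : T₀ ⟶ T)
    (hs₀ : ∀ (z : 𝒳.obj) (φ : z ⟶ x) (l : 𝒳.p.obj z ⟶ T₀), l ≫ ι ≫ p₀ = 𝒳.p.map φ → φ ≫ s.hom = φ)
    (H : ∀ c' : ClType 𝒳 T, clMap π c' = clMap π (cl (pull x rfl p₀) (pull_base x rfl p₀)) →
      clMap ι c' = clMap ι (cl (pull x rfl p₀) (pull_base x rfl p₀)) →
      c' = cl (pull x rfl p₀) (pull_base x rfl p₀)) :
    ∃ G : ∀ (y : 𝒳.obj) (q : y ⟶ x) (l : 𝒳.p.obj y ⟶ T'), (l ≫ π) ≫ p₀ = 𝒳.p.map q → (y ⟶ x),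
      (∀ y q l e, 𝒳.p.map (G y q l e) = 𝒳.p.map q) ∧
      (∀ (z y : 𝒳.obj) (φ : z ⟶ y) q l e, φ ≫ G y q l e = G z (φ ≫ q) (𝒳.p.map φ ≫ l)
        (by rw [Functor.map_comp, ← e]; simp)) ∧
      (∀ (y : 𝒳.obj) (q : y ⟶ x) (l l' : 𝒳.p.obj y ⟶ T') (e : (l ≫ π) ≫ p₀ = 𝒳.p.map q)
          (hl : l ≫ π = l' ≫ π) (e' : (l' ≫ π) ≫ p₀ = 𝒳.p.map (tw hst s hs π h χ hloc q l l' hl)),
        G y q l e = G y (tw hst s hs π h χ hloc q l l' hl) l' e') ∧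
      (∀ (y : 𝒳.obj) (q q' : y ⟶ x) (l : 𝒳.p.obj y ⟶ T') (e : (l ≫ π) ≫ p₀ = 𝒳.p.map q)
          (e' : (l ≫ π) ≫ p₀ = 𝒳.p.map q'), G y q l e = G y q' l e' → q = q') := by
  let R := facSieve π
  let I := Mem π
  let o : I → 𝒳.obj := dObj π p₀
  let qm : ∀ t : I, o t ⟶ x := IsoNatClean.dHom π p₀
  let ε : ∀ t : I, 𝒳.p.obj (o t) ⟶ t.obj.left := dEps π p₀
  let L : ∀ t : I, 𝒳.p.obj (o t) ⟶ T' := dLift π p₀
  have hL : ∀ t : I, L t ≫ π = ε t ≫ t.obj.hom := dLift_comp π p₀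
  have hqm : ∀ t : I, 𝒳.p.map (qm t) = ε t ≫ t.obj.hom ≫ p₀ := map_dHom π p₀
  let b : ∀ {t t' : I} (m : t ⟶ t'), 𝒳.p.obj (o t) ⟶ 𝒳.p.obj (o t') := fun m => dBase π p₀ m
  have hb : ∀ {t t' : I} (m : t ⟶ t'), L t ≫ π = (b m ≫ L t') ≫ π := fun m => dBase_lift π p₀ m
  let D := datum hst s hs π h χ hloc p₀
  obtain ⟨c⟩ := (isStack_iff.1 hst R (facSieve_mem π)).2 D
  let t₀ : I := ⟨Over.mk π, 𝟙 _, Category.id_comp _⟩
  let x₁ := pull x rfl p₀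
  let x₁' := pull x₁ (pull_base x rfl p₀) π
  let x₂' := pull c.pt c.base π
  obtain ⟨i₁, hi₁⟩ : ∃ i : x₁' ⟶ D.obj t₀, 𝒳.p.map i =
      eqToHom ((pull_base _ _ _).trans (D.w_obj t₀).symm) :=
    ⟨facMap (qm t₀) (pullHom x₁ (pull_base x rfl p₀) π ≫ pullHom x rfl p₀)
      (eqToHom ((pull_base _ _ _).trans (D.w_obj t₀).symm)) (by
      rw [hqm]
      simp [ε, t₀]), map_facMap _ _ _ _⟩
  obtain ⟨i₂, hi₂⟩ : ∃ i : x₂' ⟶ D.obj t₀, 𝒳.p.map i =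
      eqToHom ((pull_base _ _ _).trans (D.w_obj t₀).symm) :=
    ⟨facMap (c.ι t₀) (pullHom c.pt c.base π) (eqToHom ((pull_base _ _ _).trans (D.w_obj t₀).symm)) (by
      rw [c.map_ι]
      simp [t₀]), map_facMap _ _ _ _⟩
  have hcl : cl (𝒳 := 𝒳) x₁' (pull_base x₁ (pull_base x rfl p₀) π) = cl x₂' (pull_base c.pt c.base π) :=
    (cl_eq_iff (hy := D.w_obj t₀).2 ⟨i₁, hi₁⟩).trans (cl_eq_iff (hy := D.w_obj t₀).2 ⟨i₂, hi₂⟩).symm
  obtain ⟨hh, hhh⟩ := cl_eq_iff.1 (H (cl c.pt c.base)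
    (by rw [clMap_cl_pull, clMap_cl_pull]; exact hcl.symm) (glue_zero hst s hs π h χ hloc p₀ ι hs₀ c))
  let τ : ∀ t : I, o t ⟶ x := fun t => c.ι t ≫ hh ≫ pullHom x rfl p₀
  have hτ : ∀ t : I, 𝒳.p.map (τ t) = 𝒳.p.map (qm t) := fun t => by
    rw [hqm, Functor.map_comp, Functor.map_comp, c.map_ι, hhh]
    simp [ε]
  have hτn : ∀ {t t' : I} (m : t ⟶ t'), D.map m ≫ τ t' = τ t := fun {t t'} m =>
    (Category.assoc _ _ _).symm.trans (congrArg (· ≫ hh ≫ pullHom x rfl p₀) (c.nat m))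
  let mem : ∀ {W : Over S} (l : W ⟶ T') (r : W ⟶ T), l ≫ π = r → I :=
    fun {W} l r e => ⟨Over.mk r, l, e⟩
  let g : ∀ {y : 𝒳.obj} (r : 𝒳.p.obj y ⟶ T) (hr : R r), 𝒳.p.obj y ⟶ 𝒳.p.obj (o ⟨Over.mk r, hr⟩) :=
    fun {y} r hr => eqToHom (pull_base x rfl ((Over.mk r).hom ≫ p₀)).symm
  have hgε : ∀ {y : 𝒳.obj} (r : 𝒳.p.obj y ⟶ T) (hr : R r), g r hr ≫ ε ⟨Over.mk r, hr⟩ = 𝟙 _ :=
    fun {y} r hr => by simp [g, ε]
  have he : ∀ {y : 𝒳.obj} (l : 𝒳.p.obj y ⟶ T') (r : 𝒳.p.obj y ⟶ T) (hl : l ≫ π = r),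
      l ≫ π = (g r ⟨l, hl⟩ ≫ L ⟨Over.mk r, l, hl⟩) ≫ π := fun {y} l r hl => by
    refine hl.trans (Eq.trans ?_ (Category.assoc _ _ _).symm)
    rw [hL, ← Category.assoc, hgε r ⟨l, hl⟩]
    exact (Category.id_comp r).symm
  have hF : ∀ {y : 𝒳.obj} (q : y ⟶ x) (l : 𝒳.p.obj y ⟶ T') (r : 𝒳.p.obj y ⟶ T) (hl : l ≫ π = r),
      r ≫ p₀ = 𝒳.p.map q → g r ⟨l, hl⟩ ≫ 𝒳.p.map (qm ⟨Over.mk r, l, hl⟩) =
        𝒳.p.map (tw hst s hs π h χ hloc q l (g r ⟨l, hl⟩ ≫ L ⟨Over.mk r, l, hl⟩) (he l r hl)) :=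
    fun {y} q l r hl hq => by
      rw [hqm, (tw_spec hst s hs π h χ hloc _ _ _ _).base, ← Category.assoc, hgε r ⟨l, hl⟩, ← hq]
      exact Category.id_comp _
  let F : ∀ {y : 𝒳.obj} (q : y ⟶ x) (l : 𝒳.p.obj y ⟶ T') (r : 𝒳.p.obj y ⟶ T) (hl : l ≫ π = r),
      r ≫ p₀ = 𝒳.p.map q → (y ⟶ o ⟨Over.mk r, l, hl⟩) := fun {y} q l r hl hq =>
    facMap (qm ⟨Over.mk r, l, hl⟩) (tw hst s hs π h χ hloc q l (g r ⟨l, hl⟩ ≫ L ⟨Over.mk r, l, hl⟩) (he l r hl))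
      (g r ⟨l, hl⟩) (hF q l r hl hq)
  let Fτ : ∀ {y : 𝒳.obj} (q : y ⟶ x) (l : 𝒳.p.obj y ⟶ T') (r : 𝒳.p.obj y ⟶ T) (hl : l ≫ π = r),
      r ≫ p₀ = 𝒳.p.map q → (y ⟶ x) := fun {y} q l r hl hq => F q l r hl hq ≫ τ _
  refine ⟨fun y q l e => Fτ q l (l ≫ π) rfl e, fun y q l e => ?_, fun z y φ q l e => ?_,
    fun y q l l' e hl e' => ?_, fun y q q' l e e' hG => ?_⟩
  · change 𝒳.p.map (F q l (l ≫ π) rfl e ≫ τ _) = _
    rw [Functor.map_comp, map_facMap, hτ]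
    exact (hF q l (l ≫ π) rfl e).trans (tw_spec hst s hs π h χ hloc _ _ _ _).base
  · have hl' : (𝒳.p.map φ ≫ l) ≫ π = 𝒳.p.map φ ≫ l ≫ π := Category.assoc _ _ _
    have e2 : (𝒳.p.map φ ≫ l ≫ π) ≫ p₀ = 𝒳.p.map (φ ≫ q) := by rw [Category.assoc, e, Functor.map_comp]
    let m : (⟨Over.mk (𝒳.p.map φ ≫ l ≫ π), 𝒳.p.map φ ≫ l, hl'⟩ : I) ⟶ ⟨Over.mk (l ≫ π), l, rfl⟩ :=
      ObjectProperty.homMk (Over.homMk (𝒳.p.map φ) rfl)
    have hrw : ∀ (r : 𝒳.p.obj z ⟶ T) (hr : (𝒳.p.map φ ≫ l) ≫ π = r) (hr' : r ≫ p₀ = 𝒳.p.map (φ ≫ q)),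
        Fτ (φ ≫ q) (𝒳.p.map φ ≫ l) r hr hr' = Fτ (φ ≫ q) (𝒳.p.map φ ≫ l) (𝒳.p.map φ ≫ l ≫ π) hl' e2 :=
      fun r hr hr' => by obtain rfl : r = 𝒳.p.map φ ≫ l ≫ π := hr.symm.trans hl'; rfl
    change φ ≫ F q l (l ≫ π) rfl e ≫ τ _ = Fτ (φ ≫ q) (𝒳.p.map φ ≫ l) _ rfl (by rw [Functor.map_comp, ← e]; simp)
    refine Eq.trans ?_ (hrw _ rfl (by rw [Functor.map_comp, ← e]; simp)).symm
    refine Eq.trans ?_ (congrArg (fun k => F (φ ≫ q) (𝒳.p.map φ ≫ l) _ hl' e2 ≫ k) (hτn m))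
    change _ = F (φ ≫ q) (𝒳.p.map φ ≫ l) _ hl' e2 ≫ D.map m ≫ τ _
    refine (Category.assoc _ _ _).symm.trans (Eq.trans ?_ (Category.assoc _ _ _))
    refine congrArg (· ≫ τ _) ?_
    have hgm : g (𝒳.p.map φ ≫ l ≫ π) ⟨_, hl'⟩ ≫ b m = 𝒳.p.map φ ≫ g (l ≫ π) ⟨l, rfl⟩ := by
      change g _ _ ≫ ε _ ≫ 𝒳.p.map φ ≫ eqToHom _ = _
      rw [← Category.assoc, hgε _ ⟨_, hl'⟩]
      exact Category.id_comp _
    refine hom_ext (qm _) ?_ ?_
    · rw [Functor.map_comp, Functor.map_comp, map_facMap, map_facMap]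
      exact ((congrArg _ (map_dMap hst s hs π h χ hloc p₀ m)).trans hgm).symm
    · rw [Category.assoc, Category.assoc, facMap_comp]
      change _ = F (φ ≫ q) (𝒳.p.map φ ≫ l) _ hl' e2 ≫ dMap hst s hs π h χ hloc p₀ m ≫ qm _
      rw [dMap_comp, tw_precomp, tw_precomp]
      simp only [F, map_facMap]
      erw [facMap_comp, tw_trans]
      exact tw_congr hst s hs π h χ hloc rfl rfl (by rw [← Category.assoc, ← Category.assoc, hgm]) _
  · have hrw : ∀ (r : 𝒳.p.obj y ⟶ T) (hr : l' ≫ π = r) (q' : y ⟶ x) (hr' : r ≫ p₀ = 𝒳.p.map q'),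
        Fτ q' l' r hr hr' = Fτ q' l' (l ≫ π) hl.symm (by rw [hl, ← hr', ← hr]) :=
      fun r hr q' hr' => by obtain rfl : r = l ≫ π := hr.symm.trans hl.symm; rfl
    change Fτ q l (l ≫ π) rfl e = Fτ (tw hst s hs π h χ hloc q l l' hl) l' (l' ≫ π) rfl e'
    refine Eq.trans ?_ (hrw (l' ≫ π) rfl _ e').symm
    refine congrArg (· ≫ τ _) (hom_ext (qm ⟨Over.mk (l ≫ π), l, rfl⟩) ?_ ?_)
    · exact (map_facMap _ _ _ _).trans (map_facMap _ _ _ _).symm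
    · refine (facMap_comp _ _ _ _).trans (Eq.trans ?_ (facMap_comp _ _ _ _).symm)
      exact (tw_trans hst s hs π h χ hloc q l l' _ hl (he l' (l ≫ π) hl.symm)).symm
  · have h1 : F q l (l ≫ π) rfl e = F q' l (l ≫ π) rfl e' :=
      hom_ext (τ _) ((map_facMap _ _ _ _).trans (map_facMap _ _ _ _).symm) hG
    have h2 := congrArg (· ≫ qm ⟨Over.mk (l ≫ π), l, rfl⟩) h1
    simp only [F, facMap_comp] at h2
    exact tw_inj hst s hs π h χ hloc h2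

end Groth.Agent.IsoSmLib
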