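import Groth.Agent.IsoSmLib.Descend
/-!
Local finite presentation from descent of points along limits.
-/

set_option backward.isDefEq.respectTransparency false
set_option backward.isDefEq.respectTransparency.types false
set_option linter.unusedSectionVars false

universe u

open CategoryTheory CategoryTheory.Limits AlgebraicGeometry Opposite

namespace Groth.Agent.IsoSmLib

open _root_.AlgSp Groth.Agent.ASt

variable {S : Scheme.{u}} {𝒳 𝒴 : AlgSt.Cat S} [h𝒳 : FibCat.IsFibGrpd 𝒳.p] [h𝒴 : FibCat.IsFibGrpd 𝒴.p]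
  {f : 𝒳 ⥤ᵇ 𝒴}

/-- A representable morphism with descent of points along limits is locally of finite presentation. -/
theorem lfp_of_desc (hrep : AlgSt.RepByAlgSp1 f)
    (hdesc : ∀ {Z : Over S} (z : FibCat.overCat Z ⥤ᵇ 𝒴) ⦃I : Type u⦄ [SmallCategory I] [IsCofiltered I]
      (D : I ⥤ Over S) (c : Cone D), IsLimit ((Over.forget S).mapCone c) → (∀ i, IsAffine (D.obj i).left) →
      IsAffine c.pt.left → ∀ (i : I) (g : D.obj i ⟶ Z) (P : Pt f z (c.π.app i ≫ g)),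
      ∃ (j : I) (t : j ⟶ i) (P' : Pt f z (D.map t ≫ g)), ASt.clMap (c.π.app j) P'.el = P.el) :
    AlgSt.RepByAlgSpWith (LocP @LocallyOfFinitePresentation) f := by
  rw [repByAlgSp1_iff] at hrep
  refine repByAlgSpWith_iff.2 ⟨hrep.1, fun Z z => ?_⟩
  obtain ⟨hs, hA⟩ := hrep.2 Z z
  let F : AlgSp.Space S := ⟨⟨fib z f, hs⟩, hA⟩
  let π : F.obj ⟶ (yon S).obj Z := ObjectProperty.homMk (fibπ z f)
  refine ⟨hs, hA, S10031.result S (X := F) (Y := ⟨(yon S).obj Z, IsAlgSpace.yon_obj Z⟩)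
      (ObjectProperty.homMk π) ?_⟩
  intro I _ _ D c hc hD hT x i y hxy
  obtain ⟨g, rfl⟩ := (yon S).map_surjective y
  obtain ⟨k, P, hP⟩ := Pt.exists_el (secOf x)
  have hk : k = c.π.app i ≫ g := by
    have h := congrArg secOf hxy
    rw [← Functor.map_comp, secOf_comp] at h
    change (fibπ z f).app (op c.pt) (secOf x) = _ at h
    rw [fibπ_app, ← hP, P.fpHom_el] at h
    exact (congrArg ULift.down h).trans (Category.id_comp (c.π.app i ≫ g))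
  subst hk
  obtain ⟨j, t, P', hP'⟩ := hdesc z D c hc hD hT i g P
  refine ⟨j, t, homOf P'.el, secOf_injective ?_, secOf_injective ?_⟩
  · rw [secOf_map, secOf_homOf, ← hP]
    exact hP'
  · rw [secOf_comp, secOf_homOf, ← Functor.map_comp]
    change (fibπ z f).app (op (D.obj j)) P'.el = _
    rw [fibπ_app, P'.fpHom_el]
    exact congrArg ULift.up (Category.id_comp _).symm

variable {𝒳' 𝒴' : AlgSt.Cat S} [h𝒳' : FibCat.IsFibGrpd 𝒳'.p] [h𝒴' : FibCat.IsFibGrpd 𝒴'.p] {f' : 𝒳' ⥤ᵇ 𝒴'}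

/-- Descending points along limits transfers through an isomorphism of maps of presheaves of classes. -/
theorem exists_descend_of_fIsoSq (φ : IsoNat.FIsoSq f f')
    (hf : AlgSt.RepByAlgSpWith (LocP @LocallyOfFinitePresentation) f)
    (hI : AlgSt.RepByAlgSpWith (LocP @LocallyOfFinitePresentation) (FibCat.inertiaToBase (FibCat.toSelf 𝒴')))
    {Z : Over S} (z : FibCat.overCat Z ⥤ᵇ 𝒴') {I : Type u} [SmallCategory I] [IsCofiltered I]
    (D : I ⥤ Over S) (c : Cone D) (hc : IsLimit ((Over.forget S).mapCone c))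
    (hD : ∀ i, IsAffine (D.obj i).left) (hT : IsAffine c.pt.left) (i : I) (g : D.obj i ⟶ Z)
    (P : Pt f' z (c.π.app i ≫ g)) :
    ∃ (j : I) (t : j ⟶ i) (P' : Pt f' z (D.map t ≫ g)), ASt.clMap (c.π.app j) P'.el = P.el := by
  haveI := isFibGrpd_inertia (FibCat.toSelf 𝒴')
  obtain ⟨o, ho, α, hα⟩ := P
  obtain ⟨zη, hzη⟩ := exists_chart_fIso (fIsoSymm φ.tgt) (BasedFunctor.comp (AlgSt.overMap g) z)
  have hη : φ.tgt.toEquiv (D.obj i) (IsoNat.objCls zη) = IsoNat.objCls (BasedFunctor.comp (AlgSt.overMap g) z) :=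
    ((Equiv.symm_apply_eq _).1 hzη).symm
  have hηk : ∀ {T : Over S} (k : T ⟶ D.obj i), φ.tgt.toEquiv T (clAt zη k) = clAt z (k ≫ g) := fun k =>
    toEquiv_clAt φ.tgt hη k
  obtain ⟨c₀, hc₀⟩ := (φ.src.toEquiv c.pt).surjective (cl o ho)
  obtain ⟨ξ, hξ, rfl⟩ := cl_exists c₀
  have hxu : clAt zη (c.π.app i ≫ 𝟙 _) = cl (f.obj ξ) ((f.w_obj ξ).trans hξ) := by
    refine (φ.tgt.toEquiv _).injective ((hηk _).trans ((φ.comm c.pt (IsoNat.cls ⟨ξ, hξ⟩)).trans ?_).symm)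
    rw [Category.comp_id]
    exact (congrArg (fun k => IsoNat.mapCls f' c.pt k) hc₀).trans (cl_eq_iff.2 ⟨α, hα⟩).symm
  obtain ⟨β₀, hβ₀⟩ := cl_eq_iff.1 hxu
  obtain ⟨j, t, ⟨oQ, hoQ, β₁, hβ₁⟩, aQ, haQ, -⟩ := exists_descend hf D c hc hD hT i (𝟙 (D.obj i))
    ({ x := ξ, hx := hξ, φ := β₀, hφ := by simpa using hβ₀ } : Pt f zη (c.π.app i ≫ 𝟙 _))
  obtain ⟨o', ho', hoc⟩ := cl_exists (φ.src.toEquiv (D.obj j) (cl oQ hoQ))
  obtain ⟨m, hm⟩ := cl_eq_iff.1 (show cl (pull o' ho' (c.π.app j)) (pull_base _ _ _) = cl o ho by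
    rw [← clMap_cl_pull, ← hoc, ← toEquiv_clMap, clMap_cl (c.π.app j) aQ hξ hoQ haQ]; exact hc₀)
  let jo : pull o' ho' (c.π.app j) ⟶ o' := pullHom o' ho' (c.π.app j)
  let u := pull o' ho' (c.π.app j)
  have hu : 𝒳'.p.obj u = c.pt := pull_base _ _ _
  haveI : IsIso m := isIso_of_vert m hm
  have hzj : clAt z (D.map t ≫ g) = cl (f'.obj o') ((f'.w_obj o').trans ho') := by
    have h1 : φ.tgt.toEquiv (D.obj j) (cl (f.obj oQ) ((f.w_obj oQ).trans hoQ)) =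
        cl (f'.obj o') ((f'.w_obj o').trans ho') :=
      (φ.comm (D.obj j) (IsoNat.cls ⟨oQ, hoQ⟩)).trans (congrArg (fun k => IsoNat.mapCls f' (D.obj j) k) hoc)
    rw [← h1, ← show clAt zη (D.map t ≫ 𝟙 _) = cl (f.obj oQ) ((f.w_obj oQ).trans hoQ) from
      cl_eq_iff.2 ⟨β₁, hβ₁⟩, hηk, Category.comp_id]
  obtain ⟨β, hβ⟩ := cl_eq_iff.1 hzj
  have hg : c.π.app j ≫ D.map t ≫ g = c.π.app i ≫ g := by rw [← Category.assoc, c.w]
  obtain ⟨βT, hβT, hβTv⟩ : ∃ βT : z.obj (ov (c.π.app i ≫ g)) ⟶ f'.obj u,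
      βT ≫ f'.map jo = z.map (ovHom (c.π.app j) hg) ≫ β ∧
      𝒴'.p.map βT = eqToHom (((z.w_obj (ov (c.π.app i ≫ g))).trans (ov_base _)).trans
        ((f'.w_obj u).trans hu).symm) := by
    refine ⟨facMap (f'.map jo) (z.map (ovHom (c.π.app j) hg) ≫ β) (eqToHom _) ?_,
      facMap_comp _ _ _ _, map_facMap _ _ _ _⟩
    simp [map_w, hβ, ov_p_map, jo, u]
  haveI : IsIso βT := isIso_of_vert βT hβTv
  have hα' : 𝒴'.p.map (α ≫ f'.map (inv m)) = eqToHom (((z.w_obj (ov (c.π.app i ≫ g))).trans (ov_base _)).trans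
        ((f'.w_obj u).trans hu).symm) := by simp [map_w, hα, hm, u]
  haveI : IsIso (α ≫ f'.map (inv m)) := isIso_of_vert _ hα'
  obtain ⟨γ, hγ⟩ : ∃ γ : z.obj (ov (c.π.app i ≫ g)) ≅ z.obj (ov (c.π.app i ≫ g)),
      γ.hom = (α ≫ f'.map (inv m)) ≫ inv βT := ⟨asIso ((α ≫ f'.map (inv m)) ≫ inv βT), rfl⟩
  have hγv : 𝒴'.p.map γ.hom = 𝟙 _ := by
    rw [hγ, Functor.map_comp, hα', CategoryTheory.Functor.map_inv]
    simp [hβTv]
  let oI : (FibCat.inertia (FibCat.toSelf 𝒴')).obj := ⟨z.obj (ov (c.π.app i ≫ g)), γ, hγv⟩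
  let z' : FibCat.overCat (D.obj j) ⥤ᵇ 𝒴' := BasedFunctor.comp (AlgSt.overMap (D.map t ≫ g)) z
  let e₀ : (AlgSt.overMap (D.map t ≫ g)).obj (ov (c.π.app j ≫ 𝟙 _)) ⟶ ov (c.π.app i ≫ g) :=
    Over.homMk (𝟙 _) (by simp [AlgSt.overMap, hg])
  let P₁ : Pt (FibCat.inertiaToBase (FibCat.toSelf 𝒴')) z' (c.π.app j ≫ 𝟙 _) :=
    { x := oI, hx := (z.w_obj _).trans (ov_base _), φ := z.map e₀,
      hφ := by
        rw [map_w]
        simp [e₀, ov_p_map]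
        erw [Category.id_comp, eqToHom_trans] }
  obtain ⟨k, s, ⟨oJ, hoJ, φ', hφ'⟩, a', ha', haw⟩ := exists_descend hI D c hc hD hT j (𝟙 (D.obj j)) P₁
  let e₁ : ov (D.map (s ≫ t) ≫ g) ⟶ (AlgSt.overMap (D.map t ≫ g)).obj (ov (D.map s ≫ 𝟙 _)) :=
    Over.homMk (𝟙 _) (by simp [AlgSt.overMap])
  obtain ⟨φ'', hφ''⟩ : ∃ φ'' : z.obj (ov (D.map (s ≫ t) ≫ g)) ⟶ oJ.pt, φ'' = z.map e₁ ≫ φ' := ⟨_, rfl⟩
  have hφ''v : 𝒴'.p.map φ'' = eqToHom (((z.w_obj (ov (D.map (s ≫ t) ≫ g))).trans (ov_base _)).trans hoJ.symm) := by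
    rw [hφ'']
    simp [map_w, hφ', e₁, ov_p_map]
    erw [Category.id_comp]
    simp
  haveI : IsIso φ'' := isIso_of_vert φ'' hφ''v
  have hjk : c.π.app k ≫ D.map (s ≫ t) ≫ g = c.π.app i ≫ g := by rw [← Category.assoc, c.w]
  let jk : ov (c.π.app i ≫ g) ⟶ ov (D.map (s ≫ t) ≫ g) := ovHom (c.π.app k) hjk
  have hA : z.map jk ≫ φ'' = a'.hom := by
    have hw : z.map _ ≫ φ' = z.map e₀ ≫ a'.hom := haw
    let e₀' : ov (c.π.app i ≫ g) ⟶ (AlgSt.overMap (D.map t ≫ g)).obj (ov (c.π.app j ≫ 𝟙 _)) :=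
      Over.homMk (𝟙 _) (by simp [AlgSt.overMap, hg])
    have he : e₀' ≫ e₀ = 𝟙 _ := Over.OverMorphism.ext (Category.id_comp _)
    have hid : z.map e₀' ≫ z.map e₀ ≫ a'.hom = a'.hom := by
      rw [← Category.assoc, ← Functor.map_comp, he, CategoryTheory.Functor.map_id, Category.id_comp]
    refine Eq.trans ?_ hid
    rw [← hw, hφ'',
      ← Category.assoc, ← Category.assoc, ← Functor.map_comp, ← Functor.map_comp]
    congr 2
  obtain ⟨δ, hδ⟩ : ∃ δ, δ = φ'' ≫ oJ.aut.hom ≫ inv φ'' := ⟨_, rfl⟩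
  have hδv : 𝒴'.p.map δ = 𝟙 _ := by
    have haut : 𝒴'.p.map oJ.aut.hom = 𝟙 _ := oJ.map_aut
    simp [hδ, haut]
  have hδw : z.map jk ≫ δ = γ.hom ≫ z.map jk := by
    have h2 : γ.hom ≫ a'.hom = a'.hom ≫ oJ.aut.hom := a'.comm
    rw [hδ, reassoc_of% hA, ← reassoc_of% h2, ← reassoc_of% hA]
    simp
  have hDs : D.map s ≫ D.map t ≫ g = D.map (s ≫ t) ≫ g := by simp
  let ok := pull o' ho' (D.map s)
  let js : ok ⟶ o' := pullHom o' ho' (D.map s)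
  obtain ⟨βk, hβk, hβkv⟩ : ∃ βk : z.obj (ov (D.map (s ≫ t) ≫ g)) ⟶ f'.obj ok,
      βk ≫ f'.map js = z.map (ovHom (D.map s) hDs) ≫ β ∧
      𝒴'.p.map βk = eqToHom (((z.w_obj (ov (D.map (s ≫ t) ≫ g))).trans (ov_base _)).trans
        ((f'.w_obj ok).trans (pull_base o' ho' (D.map s))).symm) := by
    refine ⟨facMap (f'.map js) (z.map (ovHom (D.map s) hDs) ≫ β) (eqToHom _) ?_,
      facMap_comp _ _ _ _, map_facMap _ _ _ _⟩
    simp [map_w, hβ, ov_p_map, js, ok]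
  refine ⟨k, s ≫ t, ⟨ok, pull_base _ _ _, δ ≫ βk, by simp [hδv, hβkv]⟩, ?_⟩
  have huk : c.π.app k ≫ D.map s = c.π.app j := c.w s
  obtain ⟨juk, hjuk, hjukb⟩ : ∃ juk : u ⟶ ok, juk ≫ js = jo ∧
      𝒳'.p.map juk = eqToHom hu ≫ c.π.app k ≫ eqToHom (pull_base o' ho' (D.map s)).symm :=
    ⟨facMap js jo _ (by simp [js, ok, jo, u, reassoc_of% huk]), facMap_comp _ _ _ _, map_facMap _ _ _ _⟩
  refine (Pt.Res.clMap (e := hjk) ⟨inv m ≫ juk, ?_, ?_⟩)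
  · simp [hjukb, hm, u]
  show z.map jk ≫ δ ≫ βk = α ≫ f'.map (inv m ≫ juk)
  have h3 : z.map jk ≫ βk = βT ≫ f'.map juk := by
    refine hom_ext (f'.map js) (by simp [map_w, hβkv, hβTv, ov_p_map, jk, hjukb, u, ok]) ?_
    have e1 : jk ≫ ovHom (D.map s) hDs = ovHom (c.π.app j) hg := Over.OverMorphism.ext (by simp [jk])
    rw [Category.assoc, hβk, ← Category.assoc, ← Functor.map_comp, e1, ← hβT, Category.assoc, ← Functor.map_comp, hjuk]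
  rw [reassoc_of% hδw, h3, hγ]
  simp

end Groth.Agent.IsoSmLib
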