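import Groth.Agent.IsoSmLib.Lift
/-!
Gluing an affine scheme to a square zero thickening along a morphism from the small scheme.
-/

set_option backward.isDefEq.respectTransparency false
set_option backward.isDefEq.respectTransparency.types false
set_option linter.unusedSectionVars false

universe u

open CategoryTheory CategoryTheory.Limits AlgebraicGeometry Opposite

namespace Groth.Agent.IsoSmLib

variable {S : Scheme.{u}}

theorem exists_pushout {U V : Over S} [IsAffine U.left] [IsAffine V.left] {A : Type u} [CommRing A] (I : Ideal A)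
    (str : Spec (CommRingCat.of A) ⟶ S) (hI : I ^ 2 = ⊥) (v₁ : U ⟶ V) (g' : bigPt str ⟶ V)
    (u₀ : smallPt I str ⟶ U) (e : u₀ ≫ v₁ = thick I str ≫ g') :
    ∃ (B : Type u) (_ : CommRing B) (J : Ideal B) (sB : Spec (CommRingCat.of B) ⟶ S)
      (i : smallPt J sB ⟶ U) (jU : U ⟶ bigPt sB) (jT : bigPt str ⟶ bigPt sB) (w : bigPt sB ⟶ V),
      J ^ 2 = ⊥ ∧ Epi i ∧ i ≫ jU = thick J sB ∧ jU ≫ w = v₁ ∧ jT ≫ w = g' ∧ thick I str ≫ jT = u₀ ≫ jU := by
  obtain ⟨a, ha⟩ := Spec.map_surjective (u₀.left ≫ U.left.isoSpec.hom)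
  obtain ⟨b, hb⟩ := Spec.map_surjective (g'.left ≫ V.left.isoSpec.hom)
  obtain ⟨c, hc⟩ := Spec.map_surjective (U.left.isoSpec.inv ≫ v₁.left ≫ V.left.isoSpec.hom)
  let q : A →+* A ⧸ I := Ideal.Quotient.mk I
  let P : Subring (A × Γ(U.left, ⊤)) :=
    RingHom.eqLocus (q.comp (RingHom.fst A Γ(U.left, ⊤))) (a.hom.comp (RingHom.snd A Γ(U.left, ⊤)))
  let p₁ : P →+* A := (RingHom.fst A Γ(U.left, ⊤)).comp P.subtype
  let p₂ : P →+* Γ(U.left, ⊤) := (RingHom.snd A Γ(U.left, ⊤)).comp P.subtype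
  have hp : q.comp p₁ = a.hom.comp p₂ := RingHom.ext fun t => t.2
  have hsurj : Function.Surjective p₂ := fun t => by
    obtain ⟨s, hs⟩ := Ideal.Quotient.mk_surjective (a.hom t)
    exact ⟨⟨(s, t), hs⟩, rfl⟩
  let J : Ideal P := RingHom.ker p₂
  have hJ : J ^ 2 = ⊥ := by
    rw [pow_two, eq_bot_iff, Ideal.mul_le]
    intro s hs t ht
    have h : ∀ r : P, r ∈ J → r.1.1 ∈ I := fun r hr => by
      refine Ideal.Quotient.eq_zero_iff_mem.1 ?_
      have := RingHom.congr_fun hp r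
      exact this.trans ((congrArg a.hom hr).trans (map_zero _))
    have h2 : s.1.1 * t.1.1 ∈ I ^ 2 := by rw [pow_two]; exact Ideal.mul_mem_mul (h s hs) (h t ht)
    rw [hI, Ideal.mem_bot] at h2
    refine Subtype.ext (Prod.ext h2 ?_)
    show s.1.2 * t.1.2 = 0
    rw [show s.1.2 = 0 from hs, zero_mul]
  have hcb : q.comp b.hom = a.hom.comp c.hom := by
    have h : Spec.map (b ≫ CommRingCat.ofHom q) = Spec.map (c ≫ a) := by
      rw [Spec.map_comp, Spec.map_comp, ha, hb, hc]
      have e' : u₀.left ≫ v₁.left = Spec.map (CommRingCat.ofHom q) ≫ g'.left := congrArg CommaMorphism.left e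
      rw [Category.assoc, Iso.hom_inv_id_assoc, reassoc_of% e']
    exact congrArg CommRingCat.Hom.hom (Spec.map_injective h)
  let d : Γ(V.left, ⊤) →+* P := (b.hom.prod c.hom).codRestrict P fun t => RingHom.congr_fun hcb t
  let w' : Spec (CommRingCat.of P) ⟶ V.left := Spec.map (CommRingCat.ofHom d) ≫ V.left.isoSpec.inv
  let sB : Spec (CommRingCat.of P) ⟶ S := w' ≫ V.hom
  let jU' : U.left ⟶ Spec (CommRingCat.of P) := U.left.isoSpec.hom ≫ Spec.map (CommRingCat.ofHom p₂)
  let jT' : Spec (CommRingCat.of A) ⟶ Spec (CommRingCat.of P) := Spec.map (CommRingCat.ofHom p₁)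
  let eJ : (P ⧸ J) ≃+* Γ(U.left, ⊤) := RingHom.quotientKerEquivOfSurjective hsurj
  let i' : Spec (CommRingCat.of (P ⧸ J)) ⟶ U.left :=
    Spec.map (CommRingCat.ofHom eJ.symm.toRingHom) ≫ U.left.isoSpec.inv
  have hUw : jU' ≫ w' = v₁.left := by
    have : CommRingCat.ofHom d ≫ CommRingCat.ofHom p₂ = c := rfl
    simp only [jU', w', Category.assoc]
    rw [← Spec.map_comp_assoc, this, hc]
    simp
  have hTw : jT' ≫ w' = g'.left := by
    have : CommRingCat.ofHom d ≫ CommRingCat.ofHom p₁ = b := rfl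
    simp only [jT', w']
    rw [← Spec.map_comp_assoc, this, hb]
    simp
  have hij : i' ≫ jU' = Spec.map (CommRingCat.ofHom (Ideal.Quotient.mk J)) := by
    simp only [i', jU', Category.assoc, Iso.inv_hom_id_assoc]
    rw [← Spec.map_comp]
    congr 1
    ext t
    exact eJ.symm_apply_apply (Ideal.Quotient.mk J t)
  have hjj : Spec.map (CommRingCat.ofHom q) ≫ jT' = u₀.left ≫ jU' := by
    simp only [jT', jU']
    rw [← Spec.map_comp, ← Category.assoc, ← ha, ← Spec.map_comp]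
    exact congrArg Spec.map (CommRingCat.hom_ext hp)
  let w : bigPt sB ⟶ V := Over.homMk w' rfl
  let jU : U ⟶ bigPt sB := Over.homMk jU' (by
    show jU' ≫ w' ≫ V.hom = U.hom
    rw [reassoc_of% hUw]
    exact Over.w v₁)
  let jT : bigPt str ⟶ bigPt sB := Over.homMk jT' (by
    show jT' ≫ w' ≫ V.hom = str
    rw [reassoc_of% hTw]
    exact Over.w g')
  let i : smallPt J sB ⟶ U := Over.homMk i' (by
    show i' ≫ U.hom = Spec.map (CommRingCat.ofHom (Ideal.Quotient.mk J)) ≫ w' ≫ V.hom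
    rw [← hij]
    have h : U.hom = jU' ≫ w' ≫ V.hom := by
      rw [← Category.assoc, hUw]
      exact (Over.w v₁).symm
    exact (congrArg (i' ≫ ·) h).trans (Category.assoc i' jU' _).symm)
  refine ⟨P, inferInstance, J, sB, i, jU, jT, w, hJ, ?_, Over.OverMorphism.ext hij, Over.OverMorphism.ext hUw,
    Over.OverMorphism.ext hTw, Over.OverMorphism.ext hjj⟩
  haveI : IsIso (CommRingCat.ofHom eJ.symm.toRingHom) := eJ.symm.toCommRingCatIso.isIso_hom
  haveI : IsIso i' := inferInstanceAs (IsIso (_ ≫ _))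
  haveI : Epi i.left := inferInstanceAs (Epi i')
  exact Over.epi_of_epi_left i

end Groth.Agent.IsoSmLib
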