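import Groth.Agent.IsoSmLib.Double0
import Groth.Agent.IsoNatClean.Sep
/-!
Classes trivial on a cover and on a closed part are trivial when the automorphisms are rigid.
-/

set_option autoImplicit false
set_option backward.isDefEq.respectTransparency false
set_option backward.isDefEq.respectTransparency.types false
set_option linter.unusedSectionVars false

universe u

open CategoryTheory CategoryTheory.Limits AlgebraicGeometry

namespace Groth.Agent.IsoSmLib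

open Groth.Agent.ASt Groth.Agent.RepOne Groth.Agent.IsoNatClean

variable {S : Scheme.{u}} {𝒳 : AlgSt.Cat S} [h𝒳 : FibCat.IsFibGrpd 𝒳.p]

/-- Rigidity of automorphisms makes classes trivial. -/
theorem trivializes_of_rigid (hst : Stk.IsStack (AlgSp.J S) 𝒳) {x : 𝒳.obj} {B₀ : Over S}
    (ιB : B₀ ⟶ 𝒳.p.obj x) (rB : 𝒳.p.obj x ⟶ B₀) (e : x ⟶ x) (he : 𝒳.p.map e = rB ≫ ιB)
    (he₀ : ∀ (z : 𝒳.obj) (φ : z ⟶ x) (c : 𝒳.p.obj z ⟶ B₀), 𝒳.p.map φ = c ≫ ιB → φ ≫ e = φ)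
    (hrig : ∀ (z : 𝒳.obj) (τ τ' : z ⟶ x), 𝒳.p.map τ = 𝒳.p.map τ' →
      (∀ (z' : 𝒳.obj) (φ : z' ⟶ z) (c : 𝒳.p.obj z' ⟶ B₀), 𝒳.p.map (φ ≫ τ) = c ≫ ιB → φ ≫ τ = φ ≫ τ') →
      τ = τ') :
    Trivializes x ιB rB := by
  intro T T' π _ _ _ p₀ T₀ ι _ ρ ρ₀ hρ₀ hρ hfix hfac c' hc'T hc'0
  let x₁ := pull x rfl p₀
  let hx₁ : 𝒳.p.obj x₁ = T := pull_base x rfl p₀
  let q₁ : x₁ ⟶ x := pullHom x rfl p₀
  have hq₁ : 𝒳.p.map q₁ = eqToHom hx₁ ≫ p₀ := by simp [q₁]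
  obtain ⟨P, hP, rfl⟩ := cl_exists c'
  rw [clMap_cl_pull, clMap_cl_pull, cl_eq_iff] at hc'T hc'0
  obtain ⟨i, hi⟩ := hc'T
  obtain ⟨ψ, hψ⟩ := hc'0
  let P' := pull P hP π
  let hP' : 𝒳.p.obj P' = T' := pull_base P hP π
  let pP : P' ⟶ P := pullHom P hP π
  let P₀ := pull P hP ι
  let hP₀ : 𝒳.p.obj P₀ = T₀ := pull_base P hP ι
  let pP₀ : P₀ ⟶ P := pullHom P hP ι
  let iq : P' ⟶ x := i ≫ pullHom x₁ hx₁ π ≫ q₁
  have hiq : 𝒳.p.map iq = eqToHom hP' ≫ π ≫ p₀ := by simp [iq, hi, q₁]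
  let ψq : P₀ ⟶ x := ψ ≫ pullHom x₁ hx₁ ι ≫ q₁
  have hψq : 𝒳.p.map ψq = eqToHom hP₀ ≫ ι ≫ p₀ := by simp [ψq, hψ, q₁]
  let Pρ := pull P' hP' ρ
  let hPρ : 𝒳.p.obj Pρ = T' := pull_base P' hP' ρ
  let e1 : Pρ ⟶ P' := pullHom P' hP' ρ
  let k₁ : Pρ ⟶ P₀ := facMap pP₀ (e1 ≫ pP) (eqToHom hPρ ≫ ρ₀ ≫ eqToHom hP₀.symm) (by
    simp [pP₀, P₀, e1, pP, P', Pρ, reassoc_of% hρ₀])
  have hk₁ : k₁ ≫ pP₀ = e1 ≫ pP := facMap_comp _ _ _ _
  have hρe : ρ ≫ π ≫ p₀ = (π ≫ p₀) ≫ rB ≫ ιB := by rw [hρ, Category.assoc]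
  let α₁ : Pρ ⟶ x := facMap e (e1 ≫ iq) (eqToHom hPρ ≫ π ≫ p₀) (by
    rw [he, Functor.map_comp, hiq]
    simp [e1, Pρ, hρ])
  have hα₁ : α₁ ≫ e = e1 ≫ iq := facMap_comp _ _ _ _
  have hα₁b : 𝒳.p.map α₁ = eqToHom hPρ ≫ π ≫ p₀ := map_facMap _ _ _ _
  let α₂ : Pρ ⟶ x := facMap e (k₁ ≫ ψq) (eqToHom hPρ ≫ π ≫ p₀) (by
    rw [he, Functor.map_comp, hψq]
    simp [k₁, reassoc_of% hρ₀, hρ])
  have hα₂ : α₂ ≫ e = k₁ ≫ ψq := facMap_comp _ _ _ _
  have hα₂b : 𝒳.p.map α₂ = eqToHom hPρ ≫ π ≫ p₀ := map_facMap _ _ _ _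
  let σ : P' ⟶ Pρ := facMap α₁ iq (eqToHom (hP'.trans hPρ.symm)) (by rw [hα₁b, hiq]; simp)
  have hσ : σ ≫ α₁ = iq := facMap_comp _ _ _ _
  let i'' : P' ⟶ x := σ ≫ α₂
  have hi'' : 𝒳.p.map i'' = eqToHom hP' ≫ π ≫ p₀ := by simp [i'', σ, hα₂b]
  have agree : ∀ (z : 𝒳.obj) (φ : z ⟶ P') (c : 𝒳.p.obj z ⟶ B₀), 𝒳.p.map φ ≫ 𝒳.p.map i'' = c ≫ ιB →
      ∃ η : z ⟶ P₀, η ≫ pP₀ = φ ≫ pP ∧ φ ≫ i'' = η ≫ ψq := by
    intro z φ c hc
    let l : 𝒳.p.obj z ⟶ T' := 𝒳.p.map φ ≫ eqToHom hP'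
    have hl : l ≫ π ≫ p₀ = c ≫ ιB := by rw [← hc, hi'']; simp [l]
    have hlρ : l ≫ ρ = l := hfix _ l c hl
    have h1 : (φ ≫ i'') ≫ e = φ ≫ i'' := he₀ _ _ c (by rw [Functor.map_comp, hc])
    have h2 : φ ≫ σ ≫ e1 = φ := by
      refine hom_ext iq ?_ ?_
      · simp only [Functor.map_comp, σ, map_facMap, e1, map_pullHom]
        simp [Pρ]
        rw [← Category.assoc, ← Category.assoc]
        exact (congrArg (· ≫ eqToHom hP'.symm) hlρ).trans (by simp [l])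
      · simp only [Category.assoc, ← hα₁]
        rw [reassoc_of% hσ]
        exact (Category.assoc _ _ _).symm.trans (he₀ _ _ c (by rw [Functor.map_comp, hiq, ← hl]; simp [l]))
    refine ⟨φ ≫ σ ≫ k₁, ?_, ?_⟩
    · simp only [Category.assoc, hk₁]
      rw [← Category.assoc σ, ← Category.assoc φ, h2]
    · rw [← h1]
      simp only [i'', Category.assoc, hα₂]
  let R := facSieve π
  let D₀ := (Stk.resSieve R 𝒳).obj (objFun P hP)
  let l : ∀ t : (Stk.sieveCat R).obj, t.obj.left ⟶ T' := fun t => t.property.choose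
  have hl : ∀ t, l t ≫ π = t.obj.hom := fun t => t.property.choose_spec
  let χ : ∀ t : (Stk.sieveCat R).obj, D₀.obj t ⟶ P' := fun t =>
    facMap pP (pullHom P hP t.obj.hom) (eqToHom (pull_base P hP t.obj.hom) ≫ l t ≫ eqToHom hP'.symm) (by
      simp [pP, P', reassoc_of% (hl t)])
  have hχ : ∀ t, χ t ≫ pP = pullHom P hP t.obj.hom := fun t => facMap_comp _ _ _ _
  let cc : SCone D₀ :=
    { pt := x₁
      base := hx₁
      ι := fun t => facMap q₁ (χ t ≫ i'') (eqToHom (pull_base P hP t.obj.hom) ≫ t.obj.hom ≫ eqToHom hx₁.symm) (by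
        rw [hq₁, Functor.map_comp, hi'']
        simp [χ, reassoc_of% (hl t)])
      map_ι := fun t => map_facMap _ _ _ _
      nat := fun {t t'} m => by
        have hm : m.hom.left ≫ t'.obj.hom = t.obj.hom := Over.w m.hom
        refine hom_ext q₁ ?_ ?_
        · rw [Functor.map_comp, map_facMap, map_facMap, map_w D₀ m]
          simp
          exact congrArg (eqToHom _ ≫ ·) ((Category.assoc _ _ _).symm.trans (congrArg (· ≫ eqToHom _) hm))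
        rw [Category.assoc, facMap_comp, facMap_comp]
        refine hrig _ _ _ ?_ fun z φ c hc => ?_
        · simp [map_w D₀ m, hi'', χ, reassoc_of% (hl t), reassoc_of% (hl t')]
          exact congrArg (eqToHom _ ≫ ·) ((Category.assoc _ _ _).symm.trans (congrArg (· ≫ p₀) hm))
        have hnat : D₀.map m ≫ pullHom P hP t'.obj.hom = pullHom P hP t.obj.hom := (objCone R P hP).nat m
        have hbase : 𝒳.p.map (φ ≫ χ t) ≫ 𝒳.p.map i'' = c ≫ ιB := by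
          rw [← hc]
          simp [map_w D₀ m, hi'', χ, reassoc_of% (hl t), reassoc_of% (hl t')]
          exact congrArg (fun k => 𝒳.p.map φ ≫ eqToHom _ ≫ k) ((congrArg (· ≫ p₀) hm).symm.trans (Category.assoc _ _ _))
        have hbase' : 𝒳.p.map (φ ≫ D₀.map m ≫ χ t') ≫ 𝒳.p.map i'' = c ≫ ιB := by
          rw [← Functor.map_comp, Category.assoc, Category.assoc]
          exact hc
        obtain ⟨η, hη, hη'⟩ := agree z _ c hbase'
        obtain ⟨θ, hθ, hθ'⟩ := agree z _ c hbase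
        have hηθ : η ≫ pP₀ = θ ≫ pP₀ := by
          rw [hη, hθ]
          simp only [Category.assoc, hχ, hnat]
        have hpP₀ : 𝒳.p.map pP₀ = eqToHom hP₀ ≫ ι ≫ eqToHom hP.symm := map_pullHom _ _ _
        have hsame : η = θ := by
          refine hom_ext pP₀ ?_ hηθ
          have h3 := congrArg (fun k => 𝒳.p.map k) hηθ
          simp only [Functor.map_comp, hpP₀] at h3
          rw [← cancel_mono (eqToHom hP₀), ← cancel_mono ι, ← cancel_mono (eqToHom hP.symm)]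
          simpa only [Category.assoc] using h3
        simp only [Category.assoc] at hη' hθ'
        rw [hη', hθ', hsame] }
  obtain ⟨k, ⟨hk, -⟩, -⟩ := (isStack_iff.1 hst R (facSieve_mem π)).1 _ (objCone R P hP) cc
  exact cl_eq_iff.2 ⟨k, hk⟩

end Groth.Agent.IsoSmLib
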